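import Groth.Agent.Ega4dB.FlatRegC
import Groth.Agent.Flat2H.SmoothSection
import Mathlib.RingTheory.MvPolynomial.Ideal
import Mathlib.RingTheory.Ideal.Quotient.Operations

/-!
# Slicing a lift of a polynomial ring by lifts of the variables

Let `D` be a flat finitely presented `R`-algebra with `D / I D ≃ A₁[X_1, ..., X_n]`, and `t_i ∈ D` lifts of the `X_i`.
Then `D / (t)` is flat over `R` at the primes containing `I`, and `(D / (t)) / I ≃ A₁`.
-/

set_option autoImplicit false

universe u

namespace K359.PolySlice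

open MvPolynomial TensorProduct Groth.Agent.Ega4dB Groth.Agent.Ega4dB.LocReg Groth.Agent.Ega4dB.FlatPolyFib
  RingTheory.Sequence

variable {R : Type u} [CommRing R] (I : Ideal R) {D : Type u} [CommRing D] [Algebra R D]
  {A₁ : Type u} [CommRing A₁] [Algebra R A₁] {n : ℕ}
  (e : (D ⧸ I.map (algebraMap R D)) ≃ₐ[R] MvPolynomial (Fin n) A₁)

/-- `D → A₁[X]`. -/
noncomputable def toPoly : D →ₐ[R] MvPolynomial (Fin n) A₁ :=
  e.toAlgHom.comp (Ideal.Quotient.mkₐ R (I.map (algebraMap R D)))

theorem toPoly_surjective : Function.Surjective (toPoly I e) :=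
  e.surjective.comp Ideal.Quotient.mk_surjective

theorem ker_toPoly : RingHom.ker (toPoly I e) = I.map (algebraMap R D) := by
  ext x
  rw [RingHom.mem_ker]
  change e (Ideal.Quotient.mk _ x) = 0 ↔ _
  rw [map_eq_zero_iff e e.injective, Ideal.Quotient.eq_zero_iff_mem]

section Fibre

variable (p : Ideal R)

/-- `D → (A₁ / p A₁)[X]`. -/
noncomputable def toFib : D →ₐ[R] MvPolynomial (Fin n) (A₁ ⧸ p.map (algebraMap R A₁)) :=
  (MvPolynomial.mapAlgHom (Ideal.Quotient.mkₐ R (p.map (algebraMap R A₁)))).comp (toPoly I e)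

theorem toFib_surjective : Function.Surjective (toFib I e p) :=
  (MvPolynomial.map_surjective _ Ideal.Quotient.mk_surjective).comp (toPoly_surjective I e)

theorem ker_toFib (hIp : I ≤ p) : RingHom.ker (toFib I e p) = p.map (algebraMap R D) := by
  have h1 : RingHom.ker (MvPolynomial.mapAlgHom (σ := Fin n) (Ideal.Quotient.mkₐ R (p.map (algebraMap R A₁)))) =
      (p.map (algebraMap R D)).map (toPoly I e) := by
    have h2 : RingHom.ker (MvPolynomial.mapAlgHom (σ := Fin n) (Ideal.Quotient.mkₐ R (p.map (algebraMap R A₁)))) =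
        RingHom.ker (MvPolynomial.map (σ := Fin n) (Ideal.Quotient.mk (p.map (algebraMap R A₁)))) := rfl
    rw [h2, MvPolynomial.ker_map, Ideal.mk_ker, Ideal.map_map]
    have h4 : (p.map (algebraMap R D)).map (toPoly I e) = p.map ((toPoly I e).toRingHom.comp (algebraMap R D)) :=
      Ideal.map_map (algebraMap R D) (toPoly I e).toRingHom
    rw [h4]
    congr 1
    ext1 r
    exact ((toPoly I e).commutes r).symm
  have h3 : RingHom.ker (toFib I e p) = Ideal.comap (toPoly I e)
      (RingHom.ker (MvPolynomial.mapAlgHom (σ := Fin n) (Ideal.Quotient.mkₐ R (p.map (algebraMap R A₁))))) := rfl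
  rw [h3, h1, Ideal.comap_map_of_surjective _ (toPoly_surjective I e), ← RingHom.ker_eq_comap_bot, ker_toPoly,
    sup_eq_left]
  exact Ideal.map_mono hIp

variable (t : Fin n → D) (ht : ∀ i, toPoly I e (t i) = X i)

include ht in
theorem toFib_t (i : Fin n) : toFib I e p (t i) = X i := by
  change MvPolynomial.map _ (toPoly I e (t i)) = _
  rw [ht, MvPolynomial.map_X]

include ht in
theorem isWeaklyRegular_fib (hIp : I ≤ p) : IsWeaklyRegular (D ⊗[R] (R ⧸ p)) (List.ofFn t) := by
  let e1 : (D ⊗[R] (R ⧸ p)) ≃ₐ[D] (D ⧸ p.map (algebraMap R D)) :=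
    (Algebra.TensorProduct.quotIdealMapEquivTensorQuot D p).symm
  let e2 : (D ⧸ p.map (algebraMap R D)) ≃+* MvPolynomial (Fin n) (A₁ ⧸ p.map (algebraMap R A₁)) :=
    (Ideal.quotEquivOfEq (ker_toFib I e p hIp).symm).trans
      (RingHom.quotientKerEquivOfSurjective (f := (toFib I e p).toRingHom) (toFib_surjective I e p))
  let E : (D ⊗[R] (R ⧸ p)) ≃+ MvPolynomial (Fin n) (A₁ ⧸ p.map (algebraMap R A₁)) :=
    e1.toRingEquiv.toAddEquiv.trans e2.toAddEquiv
  have hE : ∀ (d : D) (x : D ⊗[R] (R ⧸ p)), E (d • x) = toFib I e p d • E x := by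
    intro d x
    have h1 : e1 (d • x) = Ideal.Quotient.mk _ d * e1 x := by
      rw [map_smul, Algebra.smul_def]
      rfl
    have h2 : e2 (Ideal.Quotient.mk _ d) = toFib I e p d := rfl
    change e2 (e1 (d • x)) = _
    rw [h1, map_mul, h2]
    rfl
  refine (AddEquiv.isWeaklyRegular_congr (e := E) (as := List.ofFn t)
    (bs := List.ofFn (X : Fin n → MvPolynomial (Fin n) (A₁ ⧸ p.map (algebraMap R A₁)))) ?_).mpr
    (Groth.Agent.Flat2H.SmoothSection.isWeaklyRegular_X (A₁ ⧸ p.map (algebraMap R A₁)) n)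
  rw [List.forall₂_iff_get]
  refine ⟨by simp, fun i h1 h2 x => ?_⟩
  rw [hE, List.get_ofFn, List.get_ofFn, toFib_t I e p t ht]
  rfl

end Fibre

section Slice

variable (t : Fin n → D) (ht : ∀ i, toPoly I e (t i) = X i)

theorem ofList_ofFn : Ideal.ofList (List.ofFn t) = Ideal.span (Set.range t) := by
  rw [Ideal.ofList]
  congr 1
  ext x
  simp [List.mem_ofFn']

include ht in
theorem tFlat_slice [Module.Flat R D] [Algebra.FinitePresentation R D] (q : Ideal D) [q.IsPrime]
    (hIq : I.map (algebraMap R D) ≤ q) (htq : Ideal.span (Set.range t) ≤ q) :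
    TFlat R q.primeCompl (D ⧸ Ideal.span (Set.range t)) := by
  have h1 : IsWeaklyRegular (D ⊗[R] (R ⧸ q.comap (algebraMap R D))) (List.ofFn t) :=
    isWeaklyRegular_fib I e _ t ht (Ideal.map_le_iff_le_comap.mp hIq)
  have h2 : TReg q.primeCompl (D ⊗[R] (R ⧸ q.comap (algebraMap R D))) (List.ofFn t) := by
    intro i hi m hm
    refine ⟨1, q.primeCompl.one_mem, ?_⟩
    rw [one_smul]
    rw [isWeaklyRegular_iff] at h1
    exact (isSMulRegular_quot_iff _ _).mp (h1 i hi) m hm
  obtain ⟨g, hg, h⟩ := exists_notMem_list q (List.ofFn t) D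
    (fun f hf => by
      obtain ⟨i, rfl⟩ := (List.mem_ofFn' t f).mp hf
      exact htq (Ideal.subset_span ⟨i, rfl⟩))
    (inferInstanceAs (Module.Flat R (Localization q.primeCompl))) h2
  have h3 := (h q hg).2 n
  have h4 : (Ideal.ofList ((List.ofFn t).take n) • (⊤ : Submodule D D)) = Ideal.span (Set.range t) := by
    rw [List.take_of_length_le (by simp), ofList_ofFn, smul_eq_mul, Ideal.mul_top]
  rw [h4] at h3
  exact h3

include ht in
theorem flat_atPrime [Module.Flat R D] [Algebra.FinitePresentation R D]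
    (q : Ideal (D ⧸ Ideal.span (Set.range t))) [hq : q.IsPrime]
    (hIq : I.map (algebraMap R (D ⧸ Ideal.span (Set.range t))) ≤ q) :
    Module.Flat R (Localization.AtPrime q) := by
  let T := Ideal.span (Set.range t)
  let Q := q.comap (Ideal.Quotient.mk T)
  have h1 : I.map (algebraMap R D) ≤ Q := by
    rw [Ideal.map_le_iff_le_comap] at hIq ⊢
    exact hIq
  have h2 : T ≤ Q := fun x hx => by
    rw [Ideal.mem_comap, Ideal.Quotient.eq_zero_iff_mem.mpr hx]
    exact q.zero_mem
  have h3 := tFlat_slice I e t ht Q h1 h2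
  have h4 : Algebra.algebraMapSubmonoid (D ⧸ T) Q.primeCompl = q.primeCompl := by
    ext x
    constructor
    · rintro ⟨y, hy, rfl⟩
      exact hy
    · intro hx
      obtain ⟨y, rfl⟩ := Ideal.Quotient.mk_surjective x
      exact ⟨y, hx, rfl⟩
  have h5 : IsLocalization (Algebra.algebraMapSubmonoid (D ⧸ T) Q.primeCompl) (Localization.AtPrime q) := by
    rw [h4]
    infer_instance
  have h6 := (isLocalizedModule_iff_isLocalization (R := D) (S := Q.primeCompl) (A := D ⧸ T)
    (Aₛ := Localization.AtPrime q)).mpr h5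
  exact (flat_iff_tflat Q.primeCompl (IsScalarTower.toAlgHom D (D ⧸ T) (Localization.AtPrime q)).toLinearMap).mpr h3

/-- `D → A₁`. -/
noncomputable def toA : D →ₐ[R] A₁ :=
  ((MvPolynomial.aeval (fun _ => (0 : A₁)) : MvPolynomial (Fin n) A₁ →ₐ[A₁] A₁).restrictScalars R).comp (toPoly I e)

theorem toA_surjective : Function.Surjective (toA I e) := by
  refine Function.Surjective.comp (g := (MvPolynomial.aeval (fun _ => (0 : A₁)) : MvPolynomial (Fin n) A₁ →ₐ[A₁] A₁))
    (fun a => ⟨C a, ?_⟩) (toPoly_surjective I e)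
  simp

include ht in
theorem span_le_ker : Ideal.span (Set.range t) ≤ RingHom.ker (toA I e) := by
  rw [Ideal.span_le]
  rintro _ ⟨i, rfl⟩
  change aeval (fun _ => (0 : A₁)) (toPoly I e (t i)) = 0
  rw [ht, aeval_X]

include ht in
theorem ker_toA : RingHom.ker (toA I e) = I.map (algebraMap R D) ⊔ Ideal.span (Set.range t) := by
  refine le_antisymm (fun x hx => ?_) (sup_le ?_ (span_le_ker I e t ht))
  · have hx' : aeval (fun _ => (0 : A₁)) (toPoly I e x) = 0 := hx
    have h1 : toPoly I e x ∈ (Ideal.span (Set.range t)).map (toPoly I e) := by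
      have h2 : (Ideal.span (Set.range t)).map (toPoly I e) =
          Ideal.span (Set.range (X : Fin n → MvPolynomial (Fin n) A₁)) := by
        rw [Ideal.map_span, ← Set.range_comp]
        congr 2
        funext i
        exact ht i
      rw [h2]
      have h3 : constantCoeff (toPoly I e x) = 0 := by
        rw [← hx', MvPolynomial.aeval_zero']
        rfl
      have h4 := MvPolynomial.mem_pow_idealOfVars_iff' (σ := Fin n) (R := A₁) 1 (toPoly I e x)
      rw [pow_one] at h4
      refine h4.mpr fun m hm => ?_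
      have hm0 : m = 0 := (Finsupp.degree_eq_zero_iff m).mp (by omega)
      rw [hm0]
      exact h3
    rw [← Ideal.mem_comap, Ideal.comap_map_of_surjective _ (toPoly_surjective I e), ← RingHom.ker_eq_comap_bot,
      ker_toPoly, sup_comm] at h1
    exact h1
  · rw [← ker_toPoly I e]
    intro x hx
    have hx' : toPoly I e x = 0 := hx
    change aeval (fun _ => (0 : A₁)) (toPoly I e x) = 0
    rw [hx', map_zero]

include ht in
theorem nonempty_quotient : Nonempty (((D ⧸ Ideal.span (Set.range t)) ⧸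
    I.map (algebraMap R (D ⧸ Ideal.span (Set.range t)))) ≃ₐ[R] A₁) := by
  let φ : (D ⧸ Ideal.span (Set.range t)) →ₐ[R] A₁ :=
    Ideal.Quotient.liftₐ _ (toA I e) (fun a ha => span_le_ker I e t ht ha)
  have hφ : Function.Surjective φ := fun a => by
    obtain ⟨d, hd⟩ := toA_surjective I e a
    exact ⟨Ideal.Quotient.mk _ d, hd⟩
  have hker : RingHom.ker φ = I.map (algebraMap R (D ⧸ Ideal.span (Set.range t))) := by
    have h1 : (RingHom.ker (toA I e)).map (Ideal.Quotient.mk (Ideal.span (Set.range t))) =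
        I.map (algebraMap R (D ⧸ Ideal.span (Set.range t))) := by
      rw [ker_toA I e t ht, Ideal.map_sup, Ideal.map_quotient_self, sup_bot_eq, Ideal.map_map]
      rfl
    rw [← h1]
    ext x
    constructor
    · intro hx
      obtain ⟨d, rfl⟩ := Ideal.Quotient.mk_surjective x
      exact Ideal.mem_map_of_mem _ (show toA I e d = 0 from hx)
    · intro hx
      obtain ⟨d, hd, rfl⟩ := (Ideal.mem_map_iff_of_surjective _ Ideal.Quotient.mk_surjective).mp hx
      exact hd
  exact ⟨(Ideal.quotientEquivAlgOfEq R hker.symm).trans (Ideal.quotientKerAlgEquivOfSurjective hφ)⟩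

end Slice

end K359.PolySlice
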