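import Groth.Agent.Synt.K563.SynBC
import Groth.Agent.Synt.K563.SynNhd
import Mathlib.RingTheory.TensorProduct.Quotient

/-!
# Algebras which are syntomic near `V(I)`
-/

set_option autoImplicit false

universe u

namespace K359.SynNear

open TensorProduct Groth.Agent

attribute [local instance] K563.SynNhd.isLocalRing_fib

variable {R S : Type u} [CommRing R] [CommRing S] [Algebra R S]

/-- The elements with syntomic localization generate the ideal of the non-syntomic locus. -/
theorem isSyntomic_away_of_mem_span [Algebra.FinitePresentation R S] (a : S)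
    (ha : a ∈ Ideal.span {g : S | Synt.IsSyntomic R (Localization.Away g)}) :
    Synt.IsSyntomic R (Localization.Away a) := by
  have key : ∀ (Q : Ideal (Localization.Away a)) [Q.IsPrime], Module.Flat R (Localization.AtPrime Q) ∧
      Pi1.IsCompleteIntersection (EGA4.FibLocRing R (Localization.Away a) Q) := by
    intro Q hQ
    let q := Q.comap (algebraMap S (Localization.Away a))
    have haq : a ∉ q := fun h => hQ.ne_top ((Ideal.eq_top_iff_one _).mpr ((Ideal.unit_mul_mem_iff_mem Q
      (IsLocalization.Away.algebraMap_isUnit (S := Localization.Away a) a)).mp (by rwa [mul_one])))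
    obtain ⟨g, hg, hgq⟩ : ∃ g : S, Synt.IsSyntomic R (Localization.Away g) ∧ g ∉ q := by
      by_contra hcon
      push Not at hcon
      exact haq ((Ideal.span_le.mpr hcon) ha)
    obtain ⟨-, h1, h2⟩ := (K563.SynNhd.exists_isSyntomic_iff (R := R) q).mp ⟨g, hgq, hg⟩
    obtain ⟨e⟩ := K563.SynNhd.nonempty_atPrime_away a Q q rfl
    obtain ⟨e2⟩ := K563.SynNhd.nonempty_fibLocRing_away (R := R) a Q q rfl
    exact ⟨Module.Flat.of_linearEquiv (e.symm.restrictScalars R).toLinearEquiv,
      (Ega4dB.CITransport.isCompleteIntersection_iff_of_ringEquiv e2).mp h2⟩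
  refine K563.SynNhd.isSyntomic_iff_fibLocRing.mpr ⟨?_, inferInstance, fun Q _ => (key Q).2⟩
  exact Module.flat_of_isLocalized_maximal (Localization.Away a) (Localization.Away a)
    (fun P _ => Localization.AtPrime P) (fun P _ => Algebra.linearMap _ _) (fun P _ => (key P).1)

/-- If `S` is flat with complete intersection fibres at the points of `V(IS)`, it is syntomic in a
neighbourhood of `V(IS)`. -/
theorem exists_isSyntomic_away [Algebra.FinitePresentation R S] (J : Ideal S)
    (h : ∀ (q : Ideal S) [q.IsPrime], J ≤ q → Module.Flat R (Localization.AtPrime q) ∧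
      Pi1.IsCompleteIntersection (EGA4.FibLocRing R S q)) :
    ∃ a : S, Ideal.Quotient.mk J a = 1 ∧ Synt.IsSyntomic R (Localization.Away a) := by
  have htop : Ideal.span {g : S | Synt.IsSyntomic R (Localization.Away g)} ⊔ J = ⊤ := by
    by_contra hne
    obtain ⟨q, hq, hle⟩ := Ideal.exists_le_maximal _ hne
    obtain ⟨h1, h2⟩ := h q (le_sup_right.trans hle)
    obtain ⟨g, hg, hg'⟩ := (K563.SynNhd.exists_isSyntomic_iff (R := R) q).mpr
      ⟨⟨1, fun h1 => hq.ne_top ((Ideal.eq_top_iff_one _).mpr h1), inferInstance⟩, h1, h2⟩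
    exact hg (hle (Ideal.mem_sup_left (Ideal.subset_span hg')))
  obtain ⟨a, ha, b, hb, hab⟩ := Submodule.mem_sup.mp ((Ideal.eq_top_iff_one _).mp htop)
  refine ⟨a, ?_, isSyntomic_away_of_mem_span a ha⟩
  rw [← map_one (Ideal.Quotient.mk J), ← hab, map_add, Ideal.Quotient.eq_zero_iff_mem.mpr hb, add_zero]

theorem isPushout_quotient (I : Ideal R) : Algebra.IsPushout R (R ⧸ I) S (S ⧸ I.map (algebraMap R S)) := by
  have h : Algebra.IsPushout R S (R ⧸ I) (S ⧸ I.map (algebraMap R S)) := by
    constructor
    refine IsBaseChange.of_equiv (Algebra.TensorProduct.quotIdealMapEquivTensorQuot S I).symm.toLinearEquiv ?_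
    intro x
    obtain ⟨x, rfl⟩ := Ideal.Quotient.mk_surjective x
    change Ideal.Quotient.mk (I.map (algebraMap R S)) (x • (1 : S)) =
      Ideal.Quotient.mk (I.map (algebraMap R S)) (algebraMap R S x)
    rw [Algebra.smul_def, mul_one]
  exact h.symm

/-- At the points of `V(IS)` the fibres are complete intersections if `S / IS` is syntomic over `R / I`. -/
theorem isCI_of_quotient [Algebra.FiniteType R S] (I : Ideal R)
    (h : Synt.IsSyntomic (R ⧸ I) (S ⧸ I.map (algebraMap R S))) (q : Ideal S) [hq : q.IsPrime]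
    (hIq : I.map (algebraMap R S) ≤ q) : Pi1.IsCompleteIntersection (EGA4.FibLocRing R S q) := by
  have hpo := isPushout_quotient (S := S) I
  let q' : Ideal (S ⧸ I.map (algebraMap R S)) := q.map (Ideal.Quotient.mk _)
  have hq' : q'.comap (algebraMap S (S ⧸ I.map (algebraMap R S))) = q :=
    (Ideal.comap_map_of_surjective _ Ideal.Quotient.mk_surjective q).trans (by
      rw [← RingHom.ker_eq_comap_bot, Ideal.mk_ker, sup_eq_left]
      exact hIq)
  have hprime : q'.IsPrime := Ideal.map_isPrime_of_surjective Ideal.Quotient.mk_surjective (by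
    rwa [Ideal.mk_ker])
  have h1 := (K563.SynNhd.isSyntomic_iff_fibLocRing.mp h).2.2 q'
  have h2 := (K563.SynBC.isCI_fibLocRing_iff_of_isPushout (R := R) (R' := R ⧸ I) (S := S)
    (S' := S ⧸ I.map (algebraMap R S)) ⟨q', hprime⟩).mpr h1
  exact (K563.SynNhd.isCI_fibLocRing_congr (R := R) hq').mp h2

end K359.SynNear
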