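import Groth.Agent.Smoothing.K359.SymDim
import Groth.Agent.Synt.K562.CotLoc
import Groth.Agent.Smoothlim.SymAlg

/-!
For `A = R[x_1..x_N]/K` syntomic over `R`, the smooth `A`-algebra `Sym_A(K/K²)` is a relative global
complete intersection over `R`.
-/

set_option autoImplicit false
universe u v w

open MvPolynomial K563.Pres K562.Rel TensorProduct Groth.Agent

namespace K359.SynRetract

/-- The conormal module of a syntomic quotient of a smooth algebra is finite projective. -/
theorem finite_projective_cotangent {R O : Type u} [CommRing R] [CommRing O] [Algebra R O]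
    [Algebra.Smooth R O] (K : Ideal O) (h : Synt.IsSyntomic R (O ⧸ K)) :
    Module.Finite (O ⧸ K) K.Cotangent ∧ Module.Projective (O ⧸ K) K.Cotangent := by
  have h1 := (K561.SynLci.isSyntomic_iff_isLCI.mp h).2
  have h2 := Groth.Agent.Dual.H366.SmoothLCI.isKoszulRegularIdeal_ker_of_smooth h1
    (Ideal.Quotient.mkₐ R K) Ideal.Quotient.mk_surjective
  have h3 : RingHom.ker (Ideal.Quotient.mkₐ R K).toRingHom = K := Ideal.mk_ker
  rw [h3] at h2
  exact K562.CotLoc.finite_projective_of_koszul K h2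

attribute [local instance] SymHasPres.tower_cotangent

theorem smooth_mvPolynomial (R : Type*) [CommRing R] (N : ℕ) :
    Algebra.Smooth R (MvPolynomial (Fin N) R) := ⟨inferInstance, inferInstance⟩

attribute [local instance] smooth_mvPolynomial

theorem exists_relGCI {R : Type u} [CommRing R] {N : ℕ} (K : Ideal (MvPolynomial (Fin N) R))
    (hfg : K.FG) (hsyn : Synt.IsSyntomic R (MvPolynomial (Fin N) R ⧸ K)) :
    ∃ (n c : ℕ) (F : Fin c → MvPolynomial (Fin n) R), Synt.IsRelGCI R n c F ∧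
      Nonempty (SymmetricAlgebra (MvPolynomial (Fin N) R ⧸ K) K.Cotangent ≃ₐ[R]
        Synt.RelGCIRing R n c F) := by
  have hproj := (finite_projective_cotangent K hsyn).2
  obtain ⟨m, hm⟩ := SymHasPres.exists_hasPres K hfg
  have hfib := SymDim.fibLE K hfg hsyn
  obtain ⟨F, hF, he⟩ := K563.RelNhd.isRelGCI_of_hasPres hm (by omega) (fun p _ => by
    have : m + N + 1 - (m + 1) = N := by omega
    rw [this]
    exact hfib p)
  exact ⟨_, _, F, hF, he⟩

/-- Finite presentations of a syntomic algebra. -/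
theorem exists_quotient {R A : Type u} [CommRing R] [CommRing A] [Algebra R A]
    (h : Synt.IsSyntomic R A) : ∃ (N : ℕ) (K : Ideal (MvPolynomial (Fin N) R)), K.FG ∧
      Synt.IsSyntomic R (MvPolynomial (Fin N) R ⧸ K) ∧
      Nonempty (A ≃ₐ[R] (MvPolynomial (Fin N) R ⧸ K)) := by
  obtain ⟨N, φ, hφ, hfg⟩ := h.2.1.out
  let e : (MvPolynomial (Fin N) R ⧸ RingHom.ker φ.toRingHom) ≃ₐ[R] A :=
    Ideal.quotientKerAlgEquivOfSurjective hφ
  exact ⟨N, RingHom.ker φ.toRingHom, hfg, K562.Rel.isSyntomic_of_algEquiv e.symm h, ⟨e.symm⟩⟩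

theorem main {R A : Type u} [CommRing R] [CommRing A] [Algebra R A]
    (h : Synt.IsSyntomic R A) :
    ∃ (n c : ℕ) (F : Fin c → MvPolynomial (Fin n) R), Synt.IsRelGCI R n c F ∧
      Module.Flat R (Synt.RelGCIRing R n c F) ∧
      ∃ (_ : Algebra A (Synt.RelGCIRing R n c F)) (_ : IsScalarTower R A (Synt.RelGCIRing R n c F)),
        Algebra.Smooth A (Synt.RelGCIRing R n c F) ∧
        ∃ ρ : Synt.RelGCIRing R n c F →ₐ[R] A, ∀ a : A, ρ (algebraMap A (Synt.RelGCIRing R n c F) a) = a := by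
  obtain ⟨N, K, hfg, hsyn, ⟨e⟩⟩ := exists_quotient h
  obtain ⟨hfin, hproj⟩ := finite_projective_cotangent K hsyn
  obtain ⟨n, c, F, hF, ⟨ε⟩⟩ := exists_relGCI K hfg hsyn
  refine ⟨n, c, F, hF, K562.RelReg.flat_relGCI F hF, ?_⟩
  let A₁ := MvPolynomial (Fin N) R ⧸ K
  let B := SymmetricAlgebra A₁ K.Cotangent
  let C := Synt.RelGCIRing R n c F
  let j : A →ₐ[R] C := (ε.toAlgHom.comp (IsScalarTower.toAlgHom R A₁ B)).comp e.toAlgHom
  let alg : Algebra A C := j.toRingHom.toAlgebra
  refine ⟨alg, IsScalarTower.of_algebraMap_eq fun r => (j.commutes r).symm, ?_, ?_⟩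
  · let : Algebra A A₁ := e.toRingEquiv.toRingHom.toAlgebra
    let : Algebra A B := ((algebraMap A₁ B).comp e.toRingEquiv.toRingHom).toAlgebra
    have : IsScalarTower A A₁ B := IsScalarTower.of_algebraMap_eq fun _ => rfl
    let e' : A ≃ₐ[A] A₁ := { e.toRingEquiv with commutes' := fun _ => rfl }
    have h1 : Algebra.Smooth A A₁ := Algebra.Smooth.of_equiv e'
    have h2 : Algebra.Smooth A₁ B := Groth.Agent.Smoothlim.SymAlg.smooth A₁ _
    have h3 : Algebra.Smooth A B := Algebra.Smooth.comp A A₁ B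
    let ε' : B ≃ₐ[A] C := { ε.toRingEquiv with commutes' := fun _ => rfl }
    exact Algebra.Smooth.of_equiv (A := B) (B := C) ε'
  · let ρ₁ : B →ₐ[R] A₁ := (SymmetricAlgebra.algebraMapInv (R := A₁) (M := K.Cotangent)).restrictScalars R
    refine ⟨(e.symm.toAlgHom.comp ρ₁).comp ε.symm.toAlgHom, fun a => ?_⟩
    change e.symm (ρ₁ (ε.symm (ε (algebraMap A₁ B (e a))))) = a
    rw [AlgEquiv.symm_apply_apply]
    have : ρ₁ (algebraMap A₁ B (e a)) = e a :=
      (SymmetricAlgebra.algebraMapInv (R := A₁) (M := K.Cotangent)).commutes _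
    rw [this, AlgEquiv.symm_apply_apply]

end K359.SynRetract
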