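import Groth.Agent.Smoothing.K359.SynLiftPoly
import Groth.Agent.Smoothing.K359.SynNear
import Groth.Agent.Smoothing.K359.PolySlice
import Groth.Agent.Smoothing.K359.SynRetract
import Groth.Agent.Synt.K562.LiftSyn
import Groth.Agent.S9147

/-!
# Lifting syntomic algebras along `R → R / I`
-/

set_option autoImplicit false

universe u

namespace K359.SynLift

open TensorProduct Groth.Agent

attribute [local instance] K359.SymHasPres.tower_cotangent

/-- `R`-algebra isomorphisms of `R / I`-algebras are `R / I`-linear. -/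
noncomputable def extend {R : Type u} [CommRing R] (I : Ideal R) {S T : Type u} [CommRing S] [CommRing T] [Algebra R S]
    [Algebra R T] [Algebra (R ⧸ I) S] [Algebra (R ⧸ I) T] [IsScalarTower R (R ⧸ I) S] [IsScalarTower R (R ⧸ I) T]
    (e : S ≃ₐ[R] T) : S ≃ₐ[R ⧸ I] T :=
  AlgEquiv.ofRingEquiv (f := e.toRingEquiv) fun x => by
    obtain ⟨r, rfl⟩ := Ideal.Quotient.mk_surjective x
    have h1 : algebraMap (R ⧸ I) S (Ideal.Quotient.mk I r) = algebraMap R S r :=
      (IsScalarTower.algebraMap_apply R (R ⧸ I) S r).symm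
    have h2 : algebraMap (R ⧸ I) T (Ideal.Quotient.mk I r) = algebraMap R T r :=
      (IsScalarTower.algebraMap_apply R (R ⧸ I) T r).symm
    rw [h1, h2]
    exact e.commutes r

/-- A polynomial ring over a syntomic `R / I`-algebra that lifts: then the algebra itself lifts. -/
theorem exists_lift_of_poly {R : Type u} [CommRing R] (I : Ideal R) {A₁ : Type u} [CommRing A₁] [Algebra R A₁]
    [Algebra (R ⧸ I) A₁] [IsScalarTower R (R ⧸ I) A₁] (h : Synt.IsSyntomic (R ⧸ I) A₁) {n : ℕ}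
    {D : Type u} [CommRing D] [Algebra R D] (hD : Synt.IsSyntomic R D)
    (e : (D ⧸ I.map (algebraMap R D)) ≃ₐ[R] MvPolynomial (Fin n) A₁) :
    ∃ (A : Type u) (_ : CommRing A) (_ : Algebra R A), Synt.IsSyntomic R A ∧
      Nonempty ((A ⧸ I.map (algebraMap R A)) ≃ₐ[R ⧸ I] A₁) := by
  obtain ⟨t, ht⟩ : ∃ t : Fin n → D, ∀ i, PolySlice.toPoly I e (t i) = MvPolynomial.X i :=
    ⟨fun i => (PolySlice.toPoly_surjective I e (MvPolynomial.X i)).choose,
      fun i => (PolySlice.toPoly_surjective I e (MvPolynomial.X i)).choose_spec⟩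
  have hflat : Module.Flat R D := hD.1
  have hfp : Algebra.FinitePresentation R D := hD.2.1
  let T := Ideal.span (Set.range t)
  have hTfg : T.FG := ⟨(Set.finite_range t).toFinset, by rw [Set.Finite.coe_toFinset]⟩
  have hfp' : Algebra.FinitePresentation R (D ⧸ T) := Algebra.FinitePresentation.quotient hTfg
  obtain ⟨e1⟩ := PolySlice.nonempty_quotient I e t ht
  have hsyn : Synt.IsSyntomic (R ⧸ I) ((D ⧸ T) ⧸ I.map (algebraMap R (D ⧸ T))) :=
    K562.Rel.isSyntomic_of_algEquiv (extend I e1).symm h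
  obtain ⟨a, ha, hsyn'⟩ := SynNear.exists_isSyntomic_away (R := R) (I.map (algebraMap R (D ⧸ T)))
    (fun q _ hq => ⟨PolySlice.flat_atPrime I e t ht q hq, SynNear.isCI_of_quotient I hsyn q hq⟩)
  obtain ⟨e2⟩ := K562.LiftSyn.nonempty_quotient_away I a ha
  exact ⟨Localization.Away a, inferInstance, inferInstance, hsyn', ⟨extend I (e2.symm.trans e1)⟩⟩

/-- Syntomic algebras lift along surjections. -/
theorem main {R A₀ : Type u} [CommRing R] (I : Ideal R) [CommRing A₀]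
    [Algebra (R ⧸ I) A₀] (h : Synt.IsSyntomic (R ⧸ I) A₀) :
    ∃ (A : Type u) (_ : CommRing A) (_ : Algebra R A), Synt.IsSyntomic R A ∧
      Nonempty ((A ⧸ I.map (algebraMap R A)) ≃ₐ[R ⧸ I] A₀) := by
  obtain ⟨N, K, hK, hsyn, ⟨e0⟩⟩ := SynRetract.exists_quotient h
  obtain ⟨n, c, F, hF, ⟨e1⟩⟩ := SynRetract.exists_relGCI K hK hsyn
  obtain ⟨F', hF', ⟨e2⟩⟩ := K562.LiftSyn.exists_lift_relGCI I n c F hF
  have hproj : Module.Finite (MvPolynomial (Fin N) (R ⧸ I) ⧸ K) K.Cotangent ∧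
      Module.Projective (MvPolynomial (Fin N) (R ⧸ I) ⧸ K) K.Cotangent := by
    have := SynRetract.smooth_mvPolynomial (R ⧸ I) N
    exact SynRetract.finite_projective_cotangent K hsyn
  obtain ⟨hP1, hP2⟩ := hproj
  obtain ⟨m, Q₀, _, _, hQ1, hQ2, ⟨ε⟩⟩ := SymIso.exists_complement (MvPolynomial (Fin N) (R ⧸ I) ⧸ K) K.Cotangent
  have e3 : (Synt.RelGCIRing R (n + 1) (c + 1) F' ⧸
      I.map (algebraMap R (Synt.RelGCIRing R (n + 1) (c + 1) F'))) ≃ₐ[R]
      SymmetricAlgebra (MvPolynomial (Fin N) (R ⧸ I) ⧸ K) K.Cotangent :=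
    e2.symm.trans (e1.symm.restrictScalars R)
  obtain ⟨D, _, _, hD, ⟨e4⟩⟩ := SynLiftPoly.exists_lift_poly I K.Cotangent Q₀ ε _ (S9147.result R _ _ F' hF') e3
  obtain ⟨A, _, _, hA, ⟨e5⟩⟩ := exists_lift_of_poly I hsyn hD e4
  exact ⟨A, inferInstance, inferInstance, hA, ⟨e5.trans e0.symm⟩⟩

end K359.SynLift
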