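import Groth.Agent.Smoothing.K359.EtaleApprox
import Groth.Agent.S0595
import Groth.Agent.CalgB.AnUnram

/-!
# Étale-local solutions of polynomial systems approximating a formal solution

Combination of Popescu's theorem with `K359.EtaleApprox.main`.
-/

set_option autoImplicit false

universe u

namespace K359.EtaleSolve

theorem main {R C : Type u} [CommRing R] [CommRing C] [Algebra R C] [IsNoetherianRing R]
    [IsNoetherianRing C] (hreg : CAlg.IsRegularHom R C) (𝔫 : Ideal C) [HenselianRing C 𝔫]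
    (p : Ideal R) [p.IsPrime]
    (hunit : ∀ s : R, s ∉ p → IsUnit (algebraMap R C s))
    (hp : p.map (algebraMap R C) ≤ 𝔫)
    (dens : ∀ (c : C) (M : ℕ), ∃ r s : R, s ∉ p ∧ algebraMap R C s * c - algebraMap R C r ∈ 𝔫 ^ M)
    (inter : ∀ (x : R) (M : ℕ), algebraMap R C x ∈ 𝔫 ^ M → ∃ s : R, s ∉ p ∧ s * x ∈ p ^ M)
    {n m : ℕ} (F : Fin m → MvPolynomial (Fin n) R) (a : Fin n → C)
    (ha : ∀ j, MvPolynomial.aeval a (F j) = 0) (M : ℕ) (hM : 0 < M) :
    ∃ (R' : Type u) (_ : CommRing R') (_ : Algebra R R'), Algebra.Etale R R' ∧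
      ∃ (ψ : R' →ₐ[R] C) (b : Fin n → R'), (∀ j, MvPolynomial.aeval b (F j) = 0) ∧
        (∀ i, a i - ψ (b i) ∈ 𝔫 ^ M) ∧
        ∀ x : R', ∃ r s : R, s ∉ p ∧ ψ (algebraMap R R' s * x - algebraMap R R' r) ∈ 𝔫 ^ M := by
  classical
  let J : Ideal (MvPolynomial (Fin n) R) := Ideal.span (Set.range F)
  have hJ : J.FG := ⟨Finset.univ.image F, by simp [J]⟩
  have hfp : Algebra.FinitePresentation R (MvPolynomial (Fin n) R ⧸ J) :=
    Algebra.FinitePresentation.quotient hJ
  let f : (MvPolynomial (Fin n) R ⧸ J) →ₐ[R] C :=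
    Ideal.Quotient.liftₐ J (MvPolynomial.aeval a) (by
      intro p hp
      have hle : J ≤ RingHom.ker (MvPolynomial.aeval a : MvPolynomial (Fin n) R →ₐ[R] C) := by
        rw [Ideal.span_le]
        rintro _ ⟨j, rfl⟩
        exact ha j
      exact hle hp)
  obtain ⟨B, _, _, hB, g, h, hgh⟩ := Groth.Agent.S0595.result R C hreg _ f
  obtain ⟨R', _, _, hR', ψ, τ, h1, h2⟩ :=
    K359.EtaleApprox.main 𝔫 h p hunit hp dens inter M hM
  refine ⟨R', inferInstance, inferInstance, hR', ψ,
    fun i => τ (g (Ideal.Quotient.mk J (MvPolynomial.X i))), ?_, ?_, h2⟩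
  · intro j
    have h3 : (MvPolynomial.aeval (fun i => τ (g (Ideal.Quotient.mk J (MvPolynomial.X i)))) :
        MvPolynomial (Fin n) R →ₐ[R] R') = τ.comp (g.comp (Ideal.Quotient.mkₐ R J)) := by
      apply MvPolynomial.algHom_ext
      intro i
      simp
    rw [h3]
    have h4 : (Ideal.Quotient.mkₐ R J) (F j) = 0 := by
      rw [Ideal.Quotient.mkₐ_eq_mk, Ideal.Quotient.eq_zero_iff_mem]
      exact Ideal.subset_span ⟨j, rfl⟩
    change τ (g ((Ideal.Quotient.mkₐ R J) (F j))) = 0
    rw [h4, map_zero, map_zero]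
  · intro i
    have h3 := h1 (g (Ideal.Quotient.mk J (MvPolynomial.X i)))
    have h4 : h (g (Ideal.Quotient.mk J (MvPolynomial.X i))) = a i := by
      have := DFunLike.congr_fun hgh (Ideal.Quotient.mk J (MvPolynomial.X i))
      change h (g (Ideal.Quotient.mk J (MvPolynomial.X i))) =
        f (Ideal.Quotient.mk J (MvPolynomial.X i)) at this
      rw [this]
      change MvPolynomial.aeval a (MvPolynomial.X i) = a i
      simp
    rwa [h4] at h3

section Completion

variable {R : Type u} [CommRing R] (I : Ideal R)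

theorem mem_pow_map_iff (fg : I.FG) (M : ℕ) (x : AdicCompletion I R) :
    x ∈ (I.map (algebraMap R (AdicCompletion I R))) ^ M ↔ AdicCompletion.evalₐ I M x = 0 := by
  rw [← Ideal.map_pow, ← Groth.Agent.CalgB.AnUnram.ker_evalₐ I fg]
  rfl

theorem exists_sub_mem (fg : I.FG) (c : AdicCompletion I R) (M : ℕ) :
    ∃ r : R, c - algebraMap R (AdicCompletion I R) r ∈
      (I.map (algebraMap R (AdicCompletion I R))) ^ M := by
  obtain ⟨r, hr⟩ := Ideal.Quotient.mk_surjective (AdicCompletion.evalₐ I M c)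
  refine ⟨r, ?_⟩
  rw [mem_pow_map_iff I fg, map_sub, ← hr, sub_eq_zero]
  exact ((AdicCompletion.evalₐ I M).commutes r).symm

theorem mem_pow_of_algebraMap_mem (fg : I.FG) (x : R) (M : ℕ)
    (h : algebraMap R (AdicCompletion I R) x ∈
      (I.map (algebraMap R (AdicCompletion I R))) ^ M) : x ∈ I ^ M := by
  rw [mem_pow_map_iff I fg] at h
  rw [← Ideal.Quotient.eq_zero_iff_mem, ← h]
  exact ((AdicCompletion.evalₐ I M).commutes x).symm

end Completion

end K359.EtaleSolve
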