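import Groth.Prelude.Def_Found
import Groth.Agent.Sga7.H509.RegBase
import Groth.Agent.Ega4A.InsepReduction
import Mathlib.RingTheory.Flat.TorsionFree
import Mathlib.RingTheory.LocalRing.ResidueField.Ideal

/-!
# Unramified extensions of discrete valuation rings with separable residue and fraction field
extensions are regular homomorphisms
-/

set_option autoImplicit false

universe u

open TensorProduct IsLocalRing

namespace K359.DVRReg

open Groth.Agent.Sga7.H509.RegBase

/-- A geometrically reduced field extension is geometrically regular. -/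
theorem isGeometricallyRegular_of_isField (k F : Type u) [Field k] [CommRing F] [Algebra k F]
    (hF : IsField F) [Algebra.IsGeometricallyReduced k F] : CAlg.IsGeometricallyRegular k F := by
  intro k' _ _ _
  let := hF.toField
  have : Algebra.IsAlgebraic k k' := inferInstance
  have h1 : IsReduced (k' ⊗[k] F) := inferInstance
  have : IsReduced (F ⊗[k] k') :=
    isReduced_of_injective (Algebra.TensorProduct.comm k F k').toRingEquiv
      (Algebra.TensorProduct.comm k F k').injective
  have : Module.Finite F (F ⊗[k] k') := inferInstance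
  have : IsArtinianRing (F ⊗[k] k') := IsArtinianRing.of_finite F _
  have := isRegularRing_of_isArtinianRing (F ⊗[k] k')
  exact IsRegularRing.of_ringEquiv (Algebra.TensorProduct.comm k F k').toRingEquiv

/-- Identification of a fibre which is a field. -/
theorem isGeometricallyReduced_fiber {R Λ k A : Type u} [CommRing R] [CommRing Λ] [Algebra R Λ]
    (p : Ideal R) [p.IsPrime] [Field k] [Algebra R k] [CommRing A] [Nontrivial A] [Algebra Λ A]
    [Algebra k A] [Algebra R A] [IsScalarTower R k A] [IsScalarTower R Λ A]
    (e : p.ResidueField ≃+* k) (he : ∀ x : R, e (algebraMap R _ x) = algebraMap R k x)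
    (hF : IsField (p.Fiber Λ))
    (hs : ∀ a : A, ∃ (x : k) (y : Λ), algebraMap k A x * algebraMap Λ A y = a)
    [Algebra.IsGeometricallyReduced k A] :
    Algebra.IsGeometricallyReduced p.ResidueField (p.Fiber Λ) := by
  let := hF.toField
  let e' : p.ResidueField →ₐ[R] A :=
    { (algebraMap k A).comp e.toRingHom with
      commutes' := fun r => by
        change algebraMap k A (e (algebraMap R _ r)) = _
        rw [he, ← IsScalarTower.algebraMap_apply] }
  let f : p.Fiber Λ →ₐ[R] A :=
    Algebra.TensorProduct.lift e' (IsScalarTower.toAlgHom R Λ A) (fun _ _ => Commute.all _ _)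
  have hf : ∀ (x : p.ResidueField) (y : Λ), f (x ⊗ₜ y) = algebraMap k A (e x) * algebraMap Λ A y :=
    fun x y => Algebra.TensorProduct.lift_tmul _ _ _ _ _
  have hinj : Function.Injective f := f.toRingHom.injective
  have hsurj : Function.Surjective f := by
    intro a
    obtain ⟨x, y, rfl⟩ := hs a
    exact ⟨e.symm x ⊗ₜ y, by rw [hf, e.apply_symm_apply]⟩
  refine Groth.Agent.Ega4A.InsepReduction.isGeometricallyReduced_of_equiv e
    (RingEquiv.ofBijective f ⟨hinj, hsurj⟩) ?_
  intro x
  change f (x ⊗ₜ (1 : Λ)) = _
  rw [hf, map_one, mul_one]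

/-- An unramified extension of discrete valuation rings with geometrically reduced extensions of
residue fields and of fraction fields is a regular homomorphism. -/
theorem isRegularHom {R Λ K L : Type u} [CommRing R] [IsDomain R]
    [IsDiscreteValuationRing R] [CommRing Λ] [IsDomain Λ] [IsDiscreteValuationRing Λ] [Algebra R Λ]
    [NoZeroSMulDivisors R Λ] [IsLocalHom (algebraMap R Λ)]
    (he : (IsLocalRing.maximalIdeal R).map (algebraMap R Λ) = IsLocalRing.maximalIdeal Λ)
    [Algebra.IsGeometricallyReduced (IsLocalRing.ResidueField R) (IsLocalRing.ResidueField Λ)]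
    [Field K] [Algebra R K] [IsFractionRing R K] [Field L] [Algebra Λ L] [IsFractionRing Λ L]
    [Algebra K L] [Algebra R L] [IsScalarTower R K L] [IsScalarTower R Λ L]
    [Algebra.IsGeometricallyReduced K L] : CAlg.IsRegularHom R Λ := by
  obtain ⟨π, hπ⟩ := IsDiscreteValuationRing.exists_irreducible R
  have hπm : maximalIdeal R = Ideal.span {π} := (IsDiscreteValuationRing.irreducible_iff_uniformizer _).1 hπ
  have hπΛ : Irreducible (algebraMap R Λ π) := by
    rw [IsDiscreteValuationRing.irreducible_iff_uniformizer, ← he, hπm, Ideal.map_span,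
      Set.image_singleton]
  have hflat : Module.Flat R Λ := by
    have : Module.IsTorsionFree R Λ := inferInstance
    infer_instance
  refine isRegularHom_of_perfect π hπΛ fun p hp hF => Or.inr ?_
  suffices Algebra.IsGeometricallyReduced p.ResidueField (p.Fiber Λ) from
    isGeometricallyRegular_of_isField _ _ hF
  by_cases hp0 : p = ⊥
  · subst hp0
    let e : (⊥ : Ideal R).ResidueField ≃ₐ[R] K :=
      IsLocalization.algEquiv (nonZeroDivisors R) _ _
    refine isGeometricallyReduced_fiber (Λ := Λ) ⊥ (A := L) e.toRingEquiv (fun x => e.commutes x) hF ?_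
    intro a
    obtain ⟨x, s, hs, rfl⟩ := IsFractionRing.div_surjective (A := Λ) a
    obtain ⟨n, u, hu⟩ := IsDiscreteValuationRing.eq_unit_mul_pow_irreducible
      (nonZeroDivisors.ne_zero hs) hπΛ
    refine ⟨(algebraMap R K (π ^ n))⁻¹, x * (u⁻¹ : Λˣ), ?_⟩
    have h1 : algebraMap Λ L s ≠ 0 := by
      intro h
      exact nonZeroDivisors.ne_zero hs ((IsFractionRing.injective Λ L) (h.trans (map_zero _).symm))
    rw [eq_div_iff h1, map_inv₀, ← IsScalarTower.algebraMap_apply, map_mul, hu, map_mul]
    have h2 : algebraMap R L (π ^ n) ≠ 0 := by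
      rw [IsScalarTower.algebraMap_apply R Λ L, map_pow]
      intro h
      have := (IsFractionRing.injective Λ L) (h.trans (map_zero _).symm)
      exact pow_ne_zero _ hπΛ.ne_zero this
    have h3 : algebraMap Λ L (algebraMap R Λ π ^ n) = algebraMap R L (π ^ n) := by
      rw [← map_pow, ← IsScalarTower.algebraMap_apply]
    rw [h3]
    have h4 : algebraMap Λ L (u⁻¹ : Λˣ) * algebraMap Λ L u = 1 := by
      rw [← map_mul, Units.inv_mul, map_one]
    calc (algebraMap R L (π ^ n))⁻¹ * (algebraMap Λ L x * algebraMap Λ L (u⁻¹ : Λˣ)) *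
          (algebraMap Λ L u * algebraMap R L (π ^ n))
        = (algebraMap Λ L (u⁻¹ : Λˣ) * algebraMap Λ L u) *
            ((algebraMap R L (π ^ n))⁻¹ * algebraMap R L (π ^ n)) * algebraMap Λ L x := by ring
      _ = algebraMap Λ L x := by rw [h4, inv_mul_cancel₀ h2, one_mul, one_mul]
  · have hpm : p = maximalIdeal R := IsLocalRing.eq_maximalIdeal (hp.isMaximal hp0)
    subst hpm
    have hbij := Ideal.bijective_algebraMap_quotient_residueField (maximalIdeal R)
    let e : ResidueField R ≃+* (maximalIdeal R).ResidueField := RingEquiv.ofBijective _ hbij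
    refine isGeometricallyReduced_fiber (Λ := Λ) (maximalIdeal R) (A := ResidueField Λ) e.symm
      ?_ hF ?_
    · intro x
      rw [RingEquiv.symm_apply_eq]
      rfl
    · intro a
      obtain ⟨y, rfl⟩ := residue_surjective a
      exact ⟨1, y, by rw [map_one, one_mul]; rfl⟩

end K359.DVRReg
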