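import Groth.Agent.Smoothing.K359.SynLift
import Mathlib.RingTheory.Smooth.Fiber
import Mathlib.RingTheory.Smooth.Locus

/-!
# Lifting smooth algebras along `R → R / I`
-/

set_option autoImplicit false

universe u

namespace K359.SmoothLift

open TensorProduct Groth.Agent

variable {R S : Type u} [CommRing R] [CommRing S] [Algebra R S]

/-- The fibres of `S` over `V(I)` are smooth if `S / IS` is smooth over `R / I`. -/
theorem formallySmooth_fiber (I : Ideal R) (h : Algebra.Smooth (R ⧸ I) (S ⧸ I.map (algebraMap R S)))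
    (p : Ideal R) [p.IsPrime] (hp : I ≤ p) : Algebra.FormallySmooth p.ResidueField (p.Fiber S) := by
  let : Algebra (R ⧸ I) p.ResidueField := (Ideal.Quotient.lift I (algebraMap R p.ResidueField) (fun a ha => by
    rw [Ideal.algebraMap_residueField_eq_zero]
    exact hp ha)).toAlgebra
  have : IsScalarTower R (R ⧸ I) p.ResidueField := IsScalarTower.of_algebraMap_eq fun _ => rfl
  let e1 : (S ⧸ I.map (algebraMap R S)) ≃ₐ[R ⧸ I] (R ⧸ I) ⊗[R] S :=
    Algebra.TensorProduct.quotIdealMapEquivQuotTensor S I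
  let e2 : p.ResidueField ⊗[R ⧸ I] (S ⧸ I.map (algebraMap R S)) ≃ₐ[p.ResidueField]
      p.ResidueField ⊗[R ⧸ I] ((R ⧸ I) ⊗[R] S) := Algebra.TensorProduct.congr AlgEquiv.refl e1
  let e3 : p.ResidueField ⊗[R ⧸ I] ((R ⧸ I) ⊗[R] S) ≃ₐ[p.ResidueField] p.Fiber S :=
    Algebra.TensorProduct.cancelBaseChange R (R ⧸ I) p.ResidueField p.ResidueField S
  have h1 : Algebra.FormallySmooth p.ResidueField (p.ResidueField ⊗[R ⧸ I] (S ⧸ I.map (algebraMap R S))) :=
    inferInstance
  exact Algebra.FormallySmooth.of_equiv (e2.trans e3)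

theorem smooth_away_of_mem_span [Algebra.FinitePresentation R S] (a : S)
    (ha : a ∈ Ideal.span {g : S | Algebra.Smooth R (Localization.Away g)}) :
    Algebra.Smooth R (Localization.Away a) := by
  rw [← Algebra.basicOpen_subset_smoothLocus_iff_smooth]
  intro q hq
  obtain ⟨g, hg, hgq⟩ : ∃ g : S, Algebra.Smooth R (Localization.Away g) ∧ g ∉ q.asIdeal := by
    by_contra hcon
    push Not at hcon
    exact hq ((Ideal.span_le.mpr hcon) ha)
  exact Algebra.basicOpen_subset_smoothLocus_iff_smooth.mpr hg hgq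

/-- A flat algebra of finite presentation with `S / IS` smooth over `R / I` is smooth near `V(IS)`. -/
theorem exists_smooth_away [Module.Flat R S] [Algebra.FinitePresentation R S] (I : Ideal R)
    (h : Algebra.Smooth (R ⧸ I) (S ⧸ I.map (algebraMap R S))) :
    ∃ a : S, Ideal.Quotient.mk (I.map (algebraMap R S)) a = 1 ∧ Algebra.Smooth R (Localization.Away a) := by
  have htop : Ideal.span {g : S | Algebra.Smooth R (Localization.Away g)} ⊔ I.map (algebraMap R S) = ⊤ := by
    by_contra hne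
    obtain ⟨q, hq, hle⟩ := Ideal.exists_le_maximal _ hne
    have h1 := formallySmooth_fiber I h (q.comap (algebraMap R S))
      (Ideal.map_le_iff_le_comap.mp (le_sup_right.trans hle))
    have h3 : q.LiesOver (q.comap (algebraMap R S)) := ⟨rfl⟩
    have h2 : Algebra.IsSmoothAt R q := Algebra.IsSmoothAt.of_formallySmooth_fiber (q.comap (algebraMap R S)) q
    obtain ⟨g, hg, hg'⟩ := Algebra.IsSmoothAt.exists_notMem_smooth R q
    exact hg (hle (Ideal.mem_sup_left (Ideal.subset_span hg')))
  obtain ⟨a, ha, b, hb, hab⟩ := Submodule.mem_sup.mp ((Ideal.eq_top_iff_one _).mp htop)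
  refine ⟨a, ?_, smooth_away_of_mem_span a ha⟩
  rw [← map_one (Ideal.Quotient.mk _), ← hab, map_add, Ideal.Quotient.eq_zero_iff_mem.mpr hb, add_zero]

/-- Smooth algebras lift along surjections. -/
theorem main {R A₀ : Type u} [CommRing R] (I : Ideal R) [CommRing A₀]
    [Algebra (R ⧸ I) A₀] [Algebra.Smooth (R ⧸ I) A₀] :
    ∃ (A : Type u) (_ : CommRing A) (_ : Algebra R A), Algebra.Smooth R A ∧
      Nonempty ((A ⧸ I.map (algebraMap R A)) ≃ₐ[R ⧸ I] A₀) := by
  obtain ⟨S, _, _, hS, ⟨e⟩⟩ := SynLift.main I (SynLiftPoly.isSyntomic_of_smooth (R ⧸ I) A₀)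
  have hflat : Module.Flat R S := hS.1
  have hfp : Algebra.FinitePresentation R S := hS.2.1
  have hsm : Algebra.Smooth (R ⧸ I) (S ⧸ I.map (algebraMap R S)) := Algebra.Smooth.of_equiv e.symm
  obtain ⟨a, ha, hsma⟩ := exists_smooth_away I hsm
  obtain ⟨e2⟩ := K562.LiftSyn.nonempty_quotient_away I a ha
  exact ⟨Localization.Away a, inferInstance, inferInstance, hsma, ⟨(SynLift.extend I e2.symm).trans e⟩⟩

end K359.SmoothLift
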