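import Groth.Agent.Smoothing.K359.SepMod

/-!
Resolving the local problem over a field at a prime with regular local ring and separable residue field.
-/

set_option autoImplicit false
universe u

open TensorProduct IsLocalRing

namespace K359.SepRes

open Smoothing Groth.Agent.CalgA Groth.Agent.CalgA.PopRing Groth.Agent.CalgA.PopFlat
  Groth.Agent.CalgA.PopBasic Groth.Agent.CalgA.PopCharZero

theorem resolvable_of_separable {k A Λ : Type u} [Field k] [CommRing A] [Algebra k A]
    [Algebra.FinitePresentation k A] [CommRing Λ] [IsNoetherianRing Λ] [Algebra k Λ]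
    (φ : A →ₐ[k] Λ) (q : Ideal Λ) [q.IsPrime] (hq : q ∈ (singRad k φ).minimalPrimes)
    [IsRegularLocalRing (Localization.AtPrime q)]
    [Algebra.IsGeometricallyReduced k q.ResidueField] : Resolvable k φ q := by
  classical
  have hq' : q ∈ ((singularIdeal k A).map (φ : A →+* Λ)).minimalPrimes := by
    rw [singRad, Ideal.radical_minimalPrimes] at hq
    exact hq
  obtain ⟨n, hn, hpow⟩ := exists_pow_le _ q hq'
  obtain ⟨d, hd⟩ : ∃ d : ℕ, ringKrullDim (Localization.AtPrime q) = d := by
    have h1 : ringKrullDim (Localization.AtPrime q) ≠ ⊥ := ringKrullDim_ne_bot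
    have h2 : ringKrullDim (Localization.AtPrime q) ≠ ⊤ := ringKrullDim_ne_top
    lift ringKrullDim (Localization.AtPrime q) to ℕ∞ using h1 with D hD
    have h3 : D ≠ ⊤ := fun h => h2 (by rw [h]; rfl)
    lift D to ℕ using h3
    exact ⟨D, rfl⟩
  obtain ⟨C, _, _, hC, α, hα, c, hc, hss, hsm, hlift⟩ := PopBC.exists_BC k A n d
  obtain ⟨π, hπspan, hπI, hπann⟩ := Groth.Agent.Smoothlim.Params.exists_parameters _ q n (c * 8) d hn
    (by omega) hpow hd
  obtain ⟨ψ, hψα, hψπ⟩ := hlift Λ φ π hπI
  let iΛ : Algebra (MvPolynomial (Fin d) k) Λ :=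
    (ψ.comp (algebraMap (MvPolynomial (Fin d) k) C)).toAlgebra
  have hX : ∀ i, algebraMap (MvPolynomial (Fin d) k) Λ (MvPolynomial.X i) = π i := hψπ
  have hCΛ : ∀ t : k, algebraMap (MvPolynomial (Fin d) k) Λ (MvPolynomial.C t) =
      algebraMap k Λ t := by
    intro t
    have h1 : α (algebraMap k A t) = algebraMap (MvPolynomial (Fin d) k) C (MvPolynomial.C t) :=
      congr($hα t)
    have h2 : ψ (α (algebraMap k A t)) = φ (algebraMap k A t) := congr($hψα (algebraMap k A t))
    change ψ (algebraMap (MvPolynomial (Fin d) k) C (MvPolynomial.C t)) = _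
    rw [← h1, h2, AlgHom.commutes]
  have tΛ : IsScalarTower k (MvPolynomial (Fin d) k) Λ :=
    IsScalarTower.of_algebraMap_eq fun t => (hCΛ t).symm
  let ψ' : C →ₐ[MvPolynomial (Fin d) k] Λ := { ψ with commutes' := fun _ => rfl }
  have hgen : (MvPolynomial.idealOfVars (Fin d) k).map
      (algebraMap (MvPolynomial (Fin d) k) (Localization.AtPrime q)) =
      maximalIdeal (Localization.AtPrime q) := by
    rw [← Localization.AtPrime.map_eq_maximalIdeal, ← hπspan, MvPolynomial.idealOfVars,
      Ideal.map_span, ← Set.range_comp]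
    congr 2
    funext i
    rw [Function.comp_apply, IsScalarTower.algebraMap_apply _ Λ (Localization.AtPrime q), hX]
  have hresR : Resolvable (MvPolynomial (Fin d) k) ψ' q := by
    have hJ : (Ideal.span (Set.range fun i : Fin d => ((MvPolynomial.X i : MvPolynomial (Fin d) k) ^ c) ^ 8)) ≤
        MvPolynomial.idealOfVars (Fin d) k := by
      rw [Ideal.span_le]
      rintro _ ⟨i, rfl⟩
      change (MvPolynomial.X i ^ c) ^ 8 ∈ MvPolynomial.idealOfVars (Fin d) k
      rw [← pow_mul]
      exact Ideal.pow_mem_of_mem _ (Ideal.subset_span (Set.mem_range_self i)) _ (by omega)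
    obtain ⟨N, hN⟩ := Ideal.exists_pow_le_of_le_radical_of_fg
      (I := MvPolynomial.idealOfVars (Fin d) k)
      (J := (Ideal.span (Set.range fun i : Fin d => ((MvPolynomial.X i : MvPolynomial (Fin d) k) ^ c) ^ 8)))
      (by
        rw [MvPolynomial.idealOfVars, Ideal.span_le]
        rintro _ ⟨i, rfl⟩
        exact ⟨c * 8, Ideal.subset_span ⟨i, (pow_mul _ c 8).symm⟩⟩)
      (IsNoetherian.noetherian _)
    have hJq : (Ideal.span (Set.range fun i : Fin d => ((MvPolynomial.X i : MvPolynomial (Fin d) k) ^ c) ^ 8)).map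
        (algebraMap (MvPolynomial (Fin d) k) Λ) ≤ q := by
      refine (Ideal.map_mono hJ).trans ?_
      rw [MvPolynomial.idealOfVars, Ideal.map_span, Ideal.span_le]
      rintro _ ⟨_, ⟨i, rfl⟩, rfl⟩
      have h1 : algebraMap Λ (Localization.AtPrime q) (π i) ∈ maximalIdeal _ := by
        rw [← Localization.AtPrime.map_eq_maximalIdeal, ← hπspan]
        exact Ideal.subset_span ⟨i, rfl⟩
      rw [IsLocalization.AtPrime.to_map_mem_maximal_iff _ q] at h1
      rw [hX]
      exact h1
    have hprime := isPrime_map_mk q _ hJq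
    refine Groth.Agent.Smoothlim.Resolve.resolvable_of_redHom ψ' q d (fun i => MvPolynomial.X i ^ c) ?_ ?_ hss
      (K359.SepMod.resolvable_mod k d Λ q hd hgen _ hJ N hN _ _)
    · intro i x hx
      simp only [← pow_mul] at hx ⊢
      exact Ideal.mul_mem_left _ _ (mem_span_of_X_pow_mul_mem i _ _ _ hx)
    · intro i x hx
      simp only [map_pow, hX] at hx ⊢
      simp only [← pow_mul _ c 8] at hx ⊢
      exact Groth.Agent.Smoothlim.Params.annihilator_condition_pow _ _ (hπann i) c x hx
  obtain ⟨B, _, _, hB, g, h, hgh, h1, h2⟩ := (resolvable_iff ψ' q).mp hresR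
  let iB : Algebra k B := ((algebraMap (MvPolynomial (Fin d) k) B).comp MvPolynomial.C).toAlgebra
  have tB : IsScalarTower k (MvPolynomial (Fin d) k) B := IsScalarTower.of_algebraMap_eq' rfl
  have hBk : Algebra.FinitePresentation k B :=
    Algebra.FinitePresentation.trans k (MvPolynomial (Fin d) k) B
  have hgh' : ∀ x, h (g x) = ψ x := fun x => DFunLike.congr_fun hgh x
  have hψα' : ∀ x, ψ (α x) = φ x := fun x => congr($hψα x)
  let g' : A →ₐ[k] B :=
    { (g : C →+* B).comp α with
      commutes' := by
        intro t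
        have h3 : α (algebraMap k A t) = algebraMap (MvPolynomial (Fin d) k) C (MvPolynomial.C t) :=
          congr($hα t)
        change g (α (algebraMap k A t)) = _
        rw [h3, AlgHom.commutes]
        rfl }
  let h' : B →ₐ[k] Λ :=
    { (h : B →+* Λ) with
      commutes' := by
        intro t
        change h (algebraMap (MvPolynomial (Fin d) k) B (MvPolynomial.C t)) = _
        rw [AlgHom.commutes, hCΛ] }
  refine (resolvable_iff φ q).mpr ⟨B, inferInstance, iB, hBk, g', h', ?_, ?_, ?_⟩
  · ext x
    change h (g (α x)) = φ x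
    rw [hgh', hψα']
  · intro P hP h3
    have h4 : Algebra.IsSmoothAt (MvPolynomial (Fin d) k) (P.comap ψ') := by
      refine hsm (P.comap ψ) ?_
      have h5 : (P.comap ψ).comap α = P.comap φ := by
        rw [Ideal.comap_comap, hψα]
        rfl
      convert h3
    exact isSmoothAt_trans (k := k) (P.comap h) (h1 P h4)
  · exact isSmoothAt_trans (k := k) (q.comap h) h2

end K359.SepRes
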