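import Groth.Agent.S2820
import Groth.Agent.S2063
import Groth.Agent.S9812
import Groth.Agent.Smoothlim.SmoothDescent

set_option autoImplicit false
universe u
open scoped TensorProduct

namespace K359.DvrSmooth

/-- The rank of `M` at a field-valued point of `Spec A` is the rank at the underlying prime. -/
lemma finrank_field {A F : Type*} [CommRing A] [Field F] [Algebra A F] (P : Ideal A) [P.IsPrime]
    (hP : P = RingHom.ker (algebraMap A F)) (M : Type*) [AddCommGroup M] [Module A M] :
    Module.finrank F (F ⊗[A] M) = Module.finrank P.ResidueField (P.ResidueField ⊗[A] M) := by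
  let f : P.ResidueField →+* F := Ideal.ResidueField.lift P (algebraMap A F)
    (fun a ha => by rwa [hP] at ha)
    (fun a (ha : a ∉ P) => by
      change IsUnit _
      rw [isUnit_iff_ne_zero]
      intro h
      exact ha (by rw [hP]; exact h))
  let : Algebra P.ResidueField F := f.toAlgebra
  have : IsScalarTower A P.ResidueField F := IsScalarTower.of_algebraMap_eq fun a =>
    (Ideal.ResidueField.lift_algebraMap _ _ _ _ _).symm
  rw [← Module.finrank_baseChange (R := F) (S := P.ResidueField),
    (TensorProduct.AlgebraTensorModule.cancelBaseChange A P.ResidueField F F M).finrank_eq]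

theorem main {R Λ A : Type u} [CommRing R] [IsDomain R]
    [IsDiscreteValuationRing R] [CommRing Λ] [IsDomain Λ] [IsDiscreteValuationRing Λ] [Algebra R Λ]
    [FaithfulSMul R Λ] (he : (IsLocalRing.maximalIdeal R).map (algebraMap R Λ) = IsLocalRing.maximalIdeal Λ)
    [CommRing A] [Algebra R A] [Algebra.FiniteType R A] [Algebra A Λ] [IsScalarTower R A Λ]
    [(RingHom.ker (algebraMap A Λ)).IsPrime]
    (hq : Algebra.IsSmoothAt R (RingHom.ker (algebraMap A Λ)))
    (hfree : Module.Free Λ (Λ ⊗[A] Ω[A⁄R])) :
    Algebra.IsSmoothAt R ((IsLocalRing.maximalIdeal Λ).comap (algebraMap A Λ)) := by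
  have : Algebra.FinitePresentation R A := Algebra.FinitePresentation.of_finiteType.mp inferInstance
  let K := FractionRing R
  let F := FractionRing Λ
  let : Algebra K F := FractionRing.liftAlgebra R F
  have : IsScalarTower R K F := FractionRing.isScalarTower_liftAlgebra R F
  let S := K ⊗[R] A
  let : Algebra A F := inferInstance
  have : IsScalarTower R A F := IsScalarTower.of_algebraMap_eq fun r => by
    rw [IsScalarTower.algebraMap_apply R Λ F, IsScalarTower.algebraMap_apply R A Λ,
      IsScalarTower.algebraMap_apply A Λ F]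
  let Φ : S →ₐ[K] F := Algebra.TensorProduct.lift (Algebra.ofId K F) (IsScalarTower.toAlgHom R A F)
    (fun _ _ => Commute.all _ _)
  let : Algebra S F := Φ.toRingHom.toAlgebra
  let : Algebra A S := Algebra.TensorProduct.rightAlgebra
  have : IsScalarTower A S F := IsScalarTower.of_algebraMap_eq fun a => by
    change _ = Φ (1 ⊗ₜ a)
    erw [Algebra.TensorProduct.lift_tmul]
    simp
  have : IsScalarTower K S F := IsScalarTower.of_algebraMap_eq fun a => (Φ.commutes a).symm
  let Q : Ideal S := RingHom.ker (algebraMap S F)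
  have hQp : Q.IsPrime := RingHom.ker_isPrime _
  have hQ : RingHom.ker (algebraMap A Λ) = Q.comap (algebraMap A S) := by
    ext a
    rw [Ideal.mem_comap, RingHom.mem_ker, RingHom.mem_ker, ← IsScalarTower.algebraMap_apply A S F,
      IsScalarTower.algebraMap_apply A Λ F, FaithfulSMul.algebraMap_eq_zero_iff Λ F]
  -- smoothness of the generic fibre at `Q`
  have hsm : Algebra.IsSmoothAt K Q := by
    rwa [← Groth.Agent.Smoothlim.SmoothDescent.isSmoothAt_iff_of_isPushout (R := R) (A := A) Q
      (RingHom.ker (algebraMap A Λ)) hQ (Or.inr inferInstance)]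
  have h1 := (Groth.Agent.S2063.result (k := K) Q).mp hsm
  set p := (IsLocalRing.maximalIdeal Λ).comap (algebraMap A Λ) with hp
  have hpp : p.IsPrime := inferInstance
  -- ranks
  have hr1 : Module.finrank Q.ResidueField (Q.ResidueField ⊗[S] Ω[S⁄K]) =
      Module.finrank Λ (Λ ⊗[A] Ω[A⁄R]) := by
    rw [← finrank_field (F := F) Q rfl]
    have e1 : F ⊗[S] Ω[S⁄K] ≃ₗ[F] F ⊗[A] Ω[A⁄R] :=
      (TensorProduct.AlgebraTensorModule.congr (LinearEquiv.refl F F)
        (KaehlerDifferential.tensorKaehlerEquiv R K A S).symm).trans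
        (TensorProduct.AlgebraTensorModule.cancelBaseChange A S F F Ω[A⁄R])
    rw [e1.finrank_eq, ← (TensorProduct.AlgebraTensorModule.cancelBaseChange A Λ F F Ω[A⁄R]).finrank_eq]
    exact Module.finrank_baseChange
  have hr2 : Module.finrank p.ResidueField (p.ResidueField ⊗[A] Ω[A⁄R]) =
      Module.finrank Λ (Λ ⊗[A] Ω[A⁄R]) := by
    have hk : p = RingHom.ker (algebraMap A (IsLocalRing.ResidueField Λ)) := by
      ext a
      rw [hp, Ideal.mem_comap, RingHom.mem_ker,
        IsScalarTower.algebraMap_apply A Λ (IsLocalRing.ResidueField Λ),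
        IsLocalRing.ResidueField.algebraMap_eq, IsLocalRing.residue_eq_zero_iff]
    rw [← finrank_field p hk, ← (TensorProduct.AlgebraTensorModule.cancelBaseChange A Λ
      (IsLocalRing.ResidueField Λ) (IsLocalRing.ResidueField Λ) Ω[A⁄R]).finrank_eq]
    exact Module.finrank_baseChange
  refine (Groth.Agent.S2820.result R A (Groth.Agent.S9812.result R) p ?_).mpr ⟨⟨Q, hQp⟩, ?_, ?_⟩
  · rw [hp, Ideal.comap_comap, ← IsScalarTower.algebraMap_eq]
    symm
    refine (IsLocalRing.maximalIdeal.isMaximal R).eq_of_le ?_ ?_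
    · exact Ideal.comap_ne_top _ (IsLocalRing.maximalIdeal.isMaximal Λ).ne_top
    · exact Ideal.map_le_iff_le_comap.mp he.le
  · change Q.comap (algebraMap A S) ≤ p
    rw [← hQ, hp]
    exact Ideal.comap_mono bot_le
  · rw [hr2, ← hr1]
    exact h1

end K359.DvrSmooth
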