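import Groth.Agent.Sga67.BlowQuot
import Mathlib.RingTheory.Smooth.Basic

/-!
The special fibre of the affine blow-up algebra of a quasi-regular sequence containing the uniformizer
is formally smooth.
-/

set_option autoImplicit false
universe u

open BlowUp
open scoped TensorProduct

namespace K359.BlowFiber

/-- If `R → k` is surjective with kernel `(ϖ)` and `ψ : S → E` is surjective with kernel `(ϖ)`, then
`k ⊗[R] S ≃ E`. -/
theorem exists_equiv {R k S E : Type*} [CommRing R] [CommRing k] [Algebra R k] [CommRing S]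
    [Algebra R S] [CommRing E] [Algebra R E] [Algebra k E] [IsScalarTower R k E] (ϖ : R)
    (hk : Function.Surjective (algebraMap R k)) (hϖ : algebraMap R k ϖ = 0) (ψ : S →ₐ[R] E)
    (hψ : Function.Surjective ψ) (hker : RingHom.ker ψ ≤ Ideal.span {algebraMap R S ϖ}) :
    Nonempty ((k ⊗[R] S) ≃ₐ[k] E) := by
  let φ : (k ⊗[R] S) →ₐ[k] E := Algebra.TensorProduct.lift (Algebra.ofId k E) ψ
    (fun _ _ => Commute.all _ _)
  have h1 : ∀ z : k ⊗[R] S, ∃ b : S, z = 1 ⊗ₜ b := by
    intro z
    induction z using TensorProduct.induction_on with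
    | zero => exact ⟨0, by simp⟩
    | tmul x b =>
      obtain ⟨r, rfl⟩ := hk x
      refine ⟨r • b, ?_⟩
      rw [TensorProduct.tmul_smul, TensorProduct.smul_tmul', Algebra.smul_def, mul_one]
    | add x y hx hy =>
      obtain ⟨b, rfl⟩ := hx
      obtain ⟨c, rfl⟩ := hy
      exact ⟨b + c, by rw [TensorProduct.tmul_add]⟩
  refine ⟨AlgEquiv.ofBijective φ ⟨?_, ?_⟩⟩
  · rw [injective_iff_map_eq_zero]
    intro z hz
    obtain ⟨b, rfl⟩ := h1 z
    have h2 : ψ b = 0 := by simpa [φ] using hz
    obtain ⟨c, rfl⟩ := Ideal.mem_span_singleton.mp (hker h2)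
    rw [← Algebra.smul_def, TensorProduct.tmul_smul, TensorProduct.smul_tmul', Algebra.smul_def, hϖ,
      zero_mul, TensorProduct.zero_tmul]
  · intro e
    obtain ⟨b, rfl⟩ := hψ e
    exact ⟨1 ⊗ₜ b, by simp [φ]⟩

open Groth.Agent.Sga67 in
/-- The special fibre of `B[(f)/ϖ]` is formally smooth over `k` if `B ⧸ (f)` is, for `f` quasi-regular
containing `ϖ`. -/
theorem formallySmooth {R B k : Type u} [CommRing R] [CommRing B] [Algebra R B] [CommRing k]
    [Algebra R k] (ϖ : R) (hk : Function.Surjective (algebraMap R k)) (hϖ : algebraMap R k ϖ = 0)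
    {c : ℕ} (f : Fin c → B) (j : Fin c) (hf : CAlgX.IsQuasiRegular f)
    (hj : f j = algebraMap R B ϖ) [Algebra k (B ⧸ Ideal.span (Set.range f))]
    [IsScalarTower R k (B ⧸ Ideal.span (Set.range f))]
    [Algebra.FormallySmooth k (B ⧸ Ideal.span (Set.range f))] :
    Algebra.FormallySmooth k (k ⊗[R] affineAlgebra B (Ideal.span (Set.range f)) (f j)) := by
  let J := Ideal.span (Set.range f)
  let E := MvPolynomial {i : Fin c // i ≠ j} (B ⧸ J)
  let q := (BlowQuot.quotEquiv j hf).toRingHom.comp (Ideal.Quotient.mk _)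
  let ψ : affineAlgebra B J (f j) →ₐ[R] E :=
    { q with
      commutes' := fun r => by
        change q (algebraMap R (affineAlgebra B J (f j)) r) = _
        rw [IsScalarTower.algebraMap_apply R B (affineAlgebra B J (f j))]
        change BlowQuot.quotEquiv j hf (Ideal.Quotient.mk _ (algebraMap B _ (algebraMap R B r))) = _
        rw [BlowQuot.quotEquiv_algebraMap]
        rfl }
  have hψ : Function.Surjective ψ :=
    (BlowQuot.quotEquiv j hf).surjective.comp Ideal.Quotient.mk_surjective
  have hker : RingHom.ker ψ ≤ Ideal.span {algebraMap R (affineAlgebra B J (f j)) ϖ} := by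
    intro z hz
    have h1 : BlowQuot.quotEquiv j hf (Ideal.Quotient.mk _ z) = 0 := hz
    rw [EmbeddingLike.map_eq_zero_iff, Ideal.Quotient.eq_zero_iff_mem] at h1
    rw [IsScalarTower.algebraMap_apply R B (affineAlgebra B J (f j)), ← hj]
    exact h1
  have : Algebra.FormallySmooth k E := Algebra.FormallySmooth.comp k (B ⧸ J) E
  obtain ⟨e⟩ := exists_equiv (k := k) ϖ hk hϖ ψ hψ hker
  exact Algebra.FormallySmooth.of_equiv e.symm

end K359.BlowFiber
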