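import Groth.Agent.Divis.BlowAlg2
import Mathlib.RingTheory.Etale.Basic

/-!
Localizing the affine blow-up algebra `A[I/a]` at a prime over `p` factors through the affine
blow-up algebra of the local ring `A_p`, and the resulting map is formally étale.
-/

set_option autoImplicit false
universe u

open BlowUp Groth.Agent.Divis
open scoped TensorProduct

namespace K359.BlowLoc

/-- A ring generated by `A₁` and a localization `B` of `A` is formally unramified over `A₁`. -/
theorem formallyUnramified_aux {A A₁ B B₁ : Type*} [CommRing A] [CommRing A₁] [CommRing B]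
    [CommRing B₁] [Algebra A A₁] [Algebra A B] [Algebra B B₁] [Algebra A B₁] [Algebra A₁ B₁]
    [IsScalarTower A A₁ B₁] [IsScalarTower A B B₁] (M : Submonoid A) [IsLocalization M B]
    (h : ∀ z : B₁, ∃ (q : A₁) (b : B), algebraMap A₁ B₁ q * algebraMap B B₁ b = z) :
    Algebra.FormallyUnramified A₁ B₁ := by
  have : Algebra.FormallyUnramified A B := Algebra.FormallyUnramified.of_isLocalization M
  let f : A₁ ⊗[A] B →ₐ[A₁] B₁ := Algebra.TensorProduct.lift (Algebra.ofId A₁ B₁)
    (IsScalarTower.toAlgHom A B B₁) (fun _ _ => Commute.all _ _)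
  refine Algebra.FormallyUnramified.of_surjective f ?_
  intro z
  obtain ⟨q, b, h⟩ := h z
  refine ⟨q ⊗ₜ b, ?_⟩
  rw [← h]
  simp [f, Algebra.ofId_apply]

/-- Formal étaleness descends along formally unramified first maps, ring hom version. -/
theorem formallyEtale_aux {A₁ B₁ C : Type*} [CommRing A₁] [CommRing B₁] [CommRing C]
    [Algebra A₁ B₁] [Algebra B₁ C] [Algebra A₁ C] [IsScalarTower A₁ B₁ C]
    [Algebra.FormallyUnramified A₁ B₁] (p' : Ideal A₁) [p'.IsPrime] [IsLocalization.AtPrime C p'] :
    Algebra.FormallyEtale B₁ C := by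
  have : Algebra.FormallyEtale A₁ C := Algebra.FormallyEtale.of_isLocalization p'.primeCompl
  exact Algebra.FormallyEtale.of_restrictScalars (R := A₁)

theorem formallyEtale_aux' {A₁ B₁ C : Type*} [CommRing A₁] [CommRing B₁] [CommRing C]
    [Algebra A₁ C] (θ : B₁ →+* C) (α : A₁ →+* B₁) (h : algebraMap A₁ C = θ.comp α)
    (hα : letI := α.toAlgebra; True → Algebra.FormallyUnramified A₁ B₁) (p' : Ideal A₁) [p'.IsPrime]
    [IsLocalization.AtPrime C p'] :
    letI := θ.toAlgebra
    Algebra.FormallyEtale B₁ C := by
  let : Algebra A₁ B₁ := α.toAlgebra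
  let : Algebra B₁ C := θ.toAlgebra
  have : IsScalarTower A₁ B₁ C := IsScalarTower.of_algebraMap_eq' h
  have : Algebra.FormallyUnramified A₁ B₁ := hα trivial
  exact formallyEtale_aux p'

section

variable {A B : Type u} [CommRing A] [CommRing B] [Algebra A B] (I : Ideal A) (π : A) (hπ : π ∈ I)

local notation "A'" => affineAlgebra A I π
local notation "B'" => affineAlgebra B (I.map (algebraMap A B)) (algebraMap A B π)

include hπ in
/-- The canonical map `A[I/π] → B[IB/π]`. -/
theorem exists_map : ∃ α : A' →+* B',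
    α.comp (algebraMap A _) = (algebraMap B _).comp (algebraMap A B) := by
  apply BlowAlg.exists_hom
  · exact BlowAlg.algebraMap_mem_nonZeroDivisors _ _
  · intro x hx
    have h1 : algebraMap B B' (algebraMap A B x) ∈
        (I.map (algebraMap A B)).map (algebraMap B B') :=
      Ideal.mem_map_of_mem _ (Ideal.mem_map_of_mem _ hx)
    rw [BlowAlg.map_eq_span _ _ (Ideal.mem_map_of_mem _ hπ), Ideal.mem_span_singleton] at h1
    exact h1

include hπ in
/-- If `B` is a localization of `A`, then `A[I/π] → B[IB/π]` is formally unramified. -/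
theorem formallyUnramified (M : Submonoid A) [IsLocalization M B] [Algebra A' B']
    (h : ∀ a : A, algebraMap A' B' (algebraMap A A' a) = algebraMap B B' (algebraMap A B a)) :
    Algebra.FormallyUnramified A' B' := by
  have : IsScalarTower A B B' := inferInstance
  have : IsScalarTower A A' B' := IsScalarTower.of_algebraMap_eq fun a => by
    rw [h, IsScalarTower.algebraMap_apply A B B']
  refine formallyUnramified_aux (A := A) (A₁ := A') (B := B) (B₁ := B') M (fun z => ?_)
  obtain ⟨n, m, hm, hz⟩ := BlowAlg2.exists_pow_mul_eq_mem _ _ (Ideal.mem_map_of_mem _ hπ) z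
  rw [← Ideal.map_pow, IsLocalization.mem_map_algebraMap_iff M] at hm
  obtain ⟨⟨⟨c, hc⟩, s⟩, hs⟩ := hm
  obtain ⟨q, hq⟩ := BlowAlg2.exists_eq_pow_mul I π hπ n hc
  refine ⟨q, IsLocalization.mk' B 1 s, ?_⟩
  have hnz : algebraMap B B' (algebraMap A B π) ^ n ∈ nonZeroDivisors B' :=
    pow_mem (BlowAlg.algebraMap_mem_nonZeroDivisors _ _) n
  apply (mul_cancel_left_mem_nonZeroDivisors hnz).mp
  rw [hz, ← mul_assoc]
  have h2 : algebraMap B B' (algebraMap A B π) ^ n * algebraMap A' B' q =
      algebraMap B B' (algebraMap A B c) := by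
    rw [← h, ← h, hq, map_mul, map_pow]
  rw [h2, ← map_mul]
  congr 1
  rw [← hs]
  change m * algebraMap A B s * _ = m
  rw [mul_assoc, mul_comm (algebraMap A B s), IsLocalization.mk'_spec, map_one, mul_one]

end

section

variable {A : Type u} [CommRing A] (I : Ideal A) (π : A) (hπ : π ∈ I) (p : Ideal A) [p.IsPrime]

local notation "A'" => affineAlgebra A I π
local notation "Ap" => Localization.AtPrime p
local notation "B'" => affineAlgebra (Localization.AtPrime p)
  (I.map (algebraMap A (Localization.AtPrime p))) (algebraMap A (Localization.AtPrime p) π)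

include hπ in
/-- The localization `C` of `A[I/π]` at a prime `p'` over `p` is formally étale over
`A_p[I A_p/π]`. -/
theorem exists_formallyEtale (p' : Ideal A') [p'.IsPrime]
    (hp' : p'.comap (algebraMap A A') = p) (C : Type u) [CommRing C] [Algebra A' C]
    [IsLocalization.AtPrime C p'] :
    ∃ _ : Algebra B' C, Algebra.FormallyEtale B' C ∧
      ∀ a : A, algebraMap B' C (algebraMap Ap B' (algebraMap A Ap a)) =
        algebraMap A' C (algebraMap A A' a) := by
  obtain ⟨α, hα⟩ := exists_map (B := Localization.AtPrime p) I π hπ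
  obtain ⟨g, hg⟩ : ∃ g : Ap →+* C, ∀ a : A, g (algebraMap A Ap a) = algebraMap A' C (algebraMap A A' a) := by
    refine ⟨IsLocalization.lift (M := p.primeCompl) (S := Ap)
      (g := (algebraMap A' C).comp (algebraMap A A')) ?_, fun a => IsLocalization.lift_eq _ a⟩
    intro y
    apply IsLocalization.map_units C (⟨algebraMap A A' y, ?_⟩ : p'.primeCompl)
    intro hy
    exact y.2 (hp'.le hy)
  have hπC : g (algebraMap A Ap π) ∈ nonZeroDivisors C := by
    rw [hg]
    exact IsLocalization.map_nonZeroDivisors_le p'.primeCompl C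
      ⟨_, BlowAlg.algebraMap_mem_nonZeroDivisors I π, rfl⟩
  obtain ⟨θ, hθ⟩ := BlowAlg.exists_hom (I.map (algebraMap A Ap)) (algebraMap A Ap π) g hπC (by
    intro x hx
    have h1 : g x ∈ (I.map (algebraMap A Ap)).map g := Ideal.mem_map_of_mem _ hx
    have h2 : g.comp (algebraMap A Ap) = (algebraMap A' C).comp (algebraMap A A') :=
      RingHom.ext hg
    rw [Ideal.map_map, h2, ← Ideal.map_map, BlowAlg.map_eq_span I π hπ, Ideal.map_span,
      Set.image_singleton, ← hg, Ideal.mem_span_singleton] at h1
    exact h1)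
  have hθ' : ∀ a : A, θ (algebraMap Ap B' (algebraMap A Ap a)) = algebraMap A' C (algebraMap A A' a) :=
    fun a => by rw [← hg, ← hθ]; rfl
  have htower : (algebraMap A' C) = θ.comp α := by
    refine BlowAlg.hom_ext I π ?_ ?_
    · ext a
      change algebraMap A' C (algebraMap A A' a) = θ (α (algebraMap A A' a))
      have h3 : α (algebraMap A A' a) = algebraMap _ B' (algebraMap A Ap a) := congr($hα a)
      rw [h3, hθ']
    · rw [← hg]; exact hπC
  refine ⟨θ.toAlgebra, ?_, hθ'⟩
  exact formallyEtale_aux' θ α htower (fun _ => by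
    let : Algebra A' B' := α.toAlgebra
    exact formallyUnramified I π hπ p.primeCompl (fun a => congr($hα a))) p'

end

end K359.BlowLoc
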