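import Groth.Agent.Smoothing.K359.NeronSeq
import Groth.Agent.Smoothing.K359.BlowFiber
import Groth.Agent.Smoothing.K359.BlowLoc
import Groth.Agent.CalgB.AdicRegField
import Groth.Agent.S2451
import Groth.Agent.Flat2E.SmoothInf

/-!
Néron's blowup: smoothness of `A[𝔭/π]` at the primes over `𝔭`.
-/

set_option autoImplicit false
universe u

open BlowUp IsLocalRing
open scoped TensorProduct

namespace K359.Neron

lemma formallySmooth_tensor {R k B C : Type*} [CommRing R] [CommRing k] [Algebra R k] [CommRing B]
    [Algebra R B] [CommRing C] [Algebra R C] [Algebra B C] [IsScalarTower R B C]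
    [Algebra.FormallySmooth B C] [Algebra.FormallySmooth k (k ⊗[R] B)] :
    Algebra.FormallySmooth k (k ⊗[R] C) := by
  let : Algebra B (k ⊗[R] B) := Algebra.TensorProduct.rightAlgebra
  have : Algebra.FormallySmooth k ((k ⊗[R] B) ⊗[B] C) :=
    Algebra.FormallySmooth.comp k (k ⊗[R] B) ((k ⊗[R] B) ⊗[B] C)
  exact Algebra.FormallySmooth.of_equiv (Algebra.IsPushout.cancelBaseChangeAlg R k B (k ⊗[R] B) C)

lemma formallySmooth_tensor' {R k A A' B C B' : Type*} [CommRing R] [CommRing k] [Algebra R k]
    [CommRing A] [CommRing A'] [Algebra R A] [Algebra A A'] [Algebra R A'] [IsScalarTower R A A']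
    [CommRing B] [Algebra R B] [Algebra A B] [IsScalarTower R A B]
    [CommRing B'] [Algebra B B'] [Algebra R B'] [IsScalarTower R B B']
    [CommRing C] [Algebra R C] [Algebra A' C] [IsScalarTower R A' C] (inst : Algebra B' C)
    (h1 : Algebra.FormallyEtale B' C) (h2 : Algebra.FormallySmooth k (k ⊗[R] B'))
    (h : ∀ r : R, algebraMap B' C (algebraMap B B' (algebraMap A B (algebraMap R A r))) =
      algebraMap A' C (algebraMap A A' (algebraMap R A r))) :
    Algebra.FormallySmooth k (k ⊗[R] C) := by
  have : IsScalarTower R B' C := IsScalarTower.of_algebraMap_eq fun r => by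
    rw [IsScalarTower.algebraMap_apply R B B', IsScalarTower.algebraMap_apply R A B, h,
      ← IsScalarTower.algebraMap_apply R A A', ← IsScalarTower.algebraMap_apply R A' C]
  exact formallySmooth_tensor (B := B')

lemma formallySmooth_baseChange {R k K C : Type*} [CommRing R] [CommRing k] [Algebra R k] [CommRing K]
    [Algebra R K] [Algebra k K] [IsScalarTower R k K] [CommRing C] [Algebra R C]
    [Algebra.FormallySmooth k (k ⊗[R] C)] :
    Algebra.FormallySmooth K (K ⊗[R] C) :=
  Algebra.FormallySmooth.of_equiv (Algebra.TensorProduct.cancelBaseChange R k K K C)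

lemma formallySmooth_residueField {R C : Type*} [CommRing R] [IsLocalRing R] [CommRing C]
    [Algebra R C] [h : Algebra.FormallySmooth (ResidueField R) (ResidueField R ⊗[R] C)] :
    Algebra.FormallySmooth (maximalIdeal R).ResidueField
      ((maximalIdeal R).ResidueField ⊗[R] C) := by
  change Algebra.FormallySmooth (R ⧸ maximalIdeal R) ((R ⧸ maximalIdeal R) ⊗[R] C) at h
  exact formallySmooth_baseChange (R := R) (k := R ⧸ maximalIdeal R)
    (K := (maximalIdeal R).ResidueField) (C := C)

/-- smoothness of the special fibre of the Néron blow-up of a local ring. -/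
theorem fiber {R B : Type u} [CommRing R] [CommRing B] [Algebra R B] [IsLocalRing R]
    [IsLocalRing B] [IsNoetherianRing B] [IsLocalHom (algebraMap R B)] (π : R)
    (hπ : maximalIdeal R = Ideal.span {π}) (hreg : IsSMulRegular B (algebraMap R B π))
    [Algebra.FormallySmooth R B]
    [Algebra.FormallySmooth (ResidueField R) (ResidueField B)] :
    Algebra.FormallySmooth (ResidueField R)
      (ResidueField R ⊗[R] affineAlgebra B (maximalIdeal B) (algebraMap R B π)) := by
  have hπB : algebraMap R B π ∈ maximalIdeal B := by
    have : π ∈ maximalIdeal R := hπ ▸ Ideal.mem_span_singleton_self π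
    exact ((mem_maximalIdeal π).mp this) ∘ (isUnit_of_map_unit (algebraMap R B) π)
  have hπ0 : algebraMap R (ResidueField R) π = 0 := by
    rw [ResidueField.algebraMap_eq, residue_eq_zero_iff, hπ]
    exact Ideal.mem_span_singleton_self π
  -- regularity of `B ⧸ π`
  have hreg' : IsRegularLocalRing (B ⧸ Ideal.span {algebraMap R B π}) := by
    let Bb := B ⧸ Ideal.span {algebraMap R B π}
    have hnt : Nontrivial Bb := Ideal.Quotient.nontrivial_iff.mpr (by
      intro h
      rw [Ideal.span_singleton_eq_top] at h
      exact (mem_maximalIdeal _).mp hπB h)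
    have : IsLocalRing Bb := IsLocalRing.of_surjective' (Ideal.Quotient.mk _)
      Ideal.Quotient.mk_surjective
    let f : ResidueField R →+* Bb := Ideal.Quotient.lift (maximalIdeal R) (algebraMap R Bb) (by
      intro a ha
      rw [hπ, Ideal.mem_span_singleton] at ha
      obtain ⟨b, rfl⟩ := ha
      rw [map_mul]
      have : algebraMap R Bb π = 0 := by
        rw [IsScalarTower.algebraMap_apply R B Bb]
        exact Ideal.Quotient.eq_zero_iff_mem.mpr (Ideal.mem_span_singleton_self _)
      rw [this, zero_mul])
    let : Algebra (ResidueField R) Bb := f.toAlgebra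
    have : IsScalarTower R (ResidueField R) Bb := IsScalarTower.of_algebraMap_eq fun x => rfl
    obtain ⟨e⟩ := BlowFiber.exists_equiv (R := R) (k := ResidueField R) (S := B) (E := Bb) π
      residue_surjective hπ0 (Ideal.Quotient.mkₐ R _) Ideal.Quotient.mk_surjective
      (fun x hx => Ideal.Quotient.eq_zero_iff_mem.mp hx)
    have : Algebra.FormallySmooth (ResidueField R) Bb := Algebra.FormallySmooth.of_equiv e
    apply Groth.Agent.CalgB.AdicRegField.isRegularLocalRing_of_isAdicFormallySmooth
      (k := ResidueField R) (A := Bb)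
    intro C _ _ J hJ ψ _
    exact Algebra.FormallySmooth.exists_lift (R := ResidueField R) (A := Bb) J ⟨2, hJ⟩ ψ
  obtain ⟨c, f, hf, hf0, hspan⟩ := NeronSeq.exists_quasiRegular (algebraMap R B π) hπB hreg hreg'
  have key : ∀ (J : Ideal B) (hJ : Ideal.span (Set.range f) = J) (t : B) (ht : f 0 = t)
      [Algebra (ResidueField R) (B ⧸ J)] [IsScalarTower R (ResidueField R) (B ⧸ J)]
      [Algebra.FormallySmooth (ResidueField R) (B ⧸ J)], Algebra.FormallySmooth (ResidueField R)
      (ResidueField R ⊗[R] affineAlgebra B J t) := by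
    intro J hJ t ht _ _ _
    subst hJ ht
    exact BlowFiber.formallySmooth π residue_surjective hπ0 f 0 hf hf0
  let : Algebra (ResidueField R) (B ⧸ maximalIdeal B) :=
    inferInstanceAs (Algebra (ResidueField R) (ResidueField B))
  have : IsScalarTower R (ResidueField R) (B ⧸ maximalIdeal B) :=
    inferInstanceAs (IsScalarTower R (ResidueField R) (ResidueField B))
  have : Algebra.FormallySmooth (ResidueField R) (B ⧸ maximalIdeal B) :=
    inferInstanceAs (Algebra.FormallySmooth (ResidueField R) (ResidueField B))
  exact key (maximalIdeal B) hspan _ hf0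

theorem fiber' {R B : Type u} [CommRing R] [CommRing B] [Algebra R B] [IsLocalRing R]
    [IsLocalRing B] [IsNoetherianRing B] [IsLocalHom (algebraMap R B)] (π : R)
    (hπ : maximalIdeal R = Ideal.span {π}) (hreg : IsSMulRegular B (algebraMap R B π))
    [Algebra.FormallySmooth R B]
    [Algebra.FormallySmooth (ResidueField R) (ResidueField B)] (J : Ideal B)
    (hJ : J = maximalIdeal B) (t : B) (ht : t = algebraMap R B π) :
    Algebra.FormallySmooth (ResidueField R) (ResidueField R ⊗[R] affineAlgebra B J t) := by
  subst hJ ht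
  exact fiber π hπ hreg

/-- The affine blow-up algebra of a flat algebra over a Dedekind domain is flat. -/
theorem flat_affineAlgebra {R A : Type u} [CommRing R] [IsDedekindDomain R] [CommRing A] [Algebra R A]
    [Module.Flat R A] (I : Ideal A) (t : A) : Module.Flat R (affineAlgebra A I t) := by
  have h0 : Module.Flat A (Localization.Away t) := IsLocalization.flat _ (Submonoid.powers t)
  have h1 : Module.Flat R (Localization.Away t) := Module.Flat.trans R A _
  have h2 : Module.IsTorsionFree R (Localization.Away t) := inferInstance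
  have h3 : Module.IsTorsionFree R (affineAlgebra A I t) := by
    let ι : affineAlgebra A I t →ₗ[R] Localization.Away t :=
      ((affineAlgebra A I t).val.restrictScalars R).toLinearMap
    exact Function.Injective.moduleIsTorsionFree ι Subtype.val_injective (fun c x => map_smul ι c x)
  infer_instance

/-- The affine blow-up algebra is of finite type over a Noetherian ring. -/
theorem finiteType_affineAlgebra {A : Type u} [CommRing A] [IsNoetherianRing A] (I : Ideal A) (t : A)
    (ht : t ∈ I) : Algebra.FiniteType A (affineAlgebra A I t) := by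
  obtain ⟨n, g, hg⟩ := Submodule.fg_iff_exists_fin_generating_family.mp
    (IsNoetherian.noetherian I)
  let f : Fin (n + 1) → A := Fin.cons t g
  have hf : Ideal.span (Set.range f) = I := by
    rw [Fin.range_cons, Ideal.span_insert]
    have : Ideal.span (Set.range g) = I := hg
    rw [this, sup_eq_right, Ideal.span_singleton_le_iff_mem]
    exact ht
  have key : ∀ (J : Ideal A) (hJ : Ideal.span (Set.range f) = J) (t : A) (ht : f 0 = t),
      Algebra.FiniteType A (affineAlgebra A J t) := by
    intro J hJ t ht
    subst hJ ht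
    exact Groth.Agent.Sga67.BlowQuot.finiteType 0
  exact key I hf t rfl

theorem main {R Λ A : Type u} [CommRing R] [IsDomain R] [IsDiscreteValuationRing R] [CommRing Λ]
    [IsLocalRing Λ] [Algebra R Λ] [IsLocalHom (algebraMap R Λ)]
    (hsep : Algebra.IsGeometricallyReduced (ResidueField R) (ResidueField Λ))
    [CommRing A] [Algebra R A] [Module.Flat R A] [Algebra.FiniteType R A] [Algebra A Λ]
    [IsScalarTower R A Λ]
    (π : R) (hπ : maximalIdeal R = Ideal.span {π}) (𝔭 : Ideal A)
    (h𝔭 : 𝔭 = (maximalIdeal Λ).comap (algebraMap A Λ)) [𝔭.IsPrime]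
    (hsm : Algebra.IsSmoothAt R 𝔭)
    (𝔭' : Ideal (affineAlgebra A 𝔭 (algebraMap R A π))) [𝔭'.IsPrime]
    (h' : 𝔭'.comap (algebraMap A _) = 𝔭) :
    Algebra.IsSmoothAt R 𝔭' := by
  let A' := affineAlgebra A 𝔭 (algebraMap R A π)
  let B := Localization.AtPrime 𝔭
  let C := Localization.AtPrime 𝔭'
  have hNA : IsNoetherianRing A := Algebra.FiniteType.isNoetherianRing R A
  have hNB : IsNoetherianRing B := IsLocalization.isNoetherianRing 𝔭.primeCompl _ hNA
  have hπ0 : π ≠ 0 := by
    rintro rfl
    rw [Ideal.span_singleton_eq_bot.mpr rfl] at hπ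
    exact IsDiscreteValuationRing.not_a_field R hπ
  have hπ𝔭 : algebraMap R A π ∈ 𝔭 := by
    rw [h𝔭, Ideal.mem_comap, ← IsScalarTower.algebraMap_apply]
    have : π ∈ maximalIdeal R := hπ ▸ Ideal.mem_span_singleton_self π
    exact ((mem_maximalIdeal π).mp this) ∘ (isUnit_of_map_unit (algebraMap R Λ) π)
  -- `B → Λ`
  obtain ⟨g, hg⟩ : ∃ g : B →+* Λ, ∀ a : A, g (algebraMap A B a) = algebraMap A Λ a := by
    refine ⟨IsLocalization.lift (M := 𝔭.primeCompl) (S := B) (g := algebraMap A Λ) ?_,
      fun a => IsLocalization.lift_eq _ a⟩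
    intro y
    by_contra hy
    exact y.2 (h𝔭.ge hy)
  have hgR : ∀ r : R, g (algebraMap R B r) = algebraMap R Λ r := fun r => by
    rw [IsScalarTower.algebraMap_apply R A B, hg, ← IsScalarTower.algebraMap_apply]
  have hgloc : IsLocalHom g := by
    constructor
    intro x hx
    obtain ⟨a, s, rfl⟩ := IsLocalization.exists_mk'_eq 𝔭.primeCompl x
    have h1 : g (IsLocalization.mk' B a s) * algebraMap A Λ s = algebraMap A Λ a := by
      rw [← hg, ← hg, ← map_mul, IsLocalization.mk'_spec]
    have h2 : IsUnit (algebraMap A Λ (s : A)) := by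
      by_contra hy
      exact s.2 (h𝔭.ge hy)
    have h3 : IsUnit (algebraMap A Λ a) := h1 ▸ hx.mul h2
    have h4 : a ∈ 𝔭.primeCompl := by
      intro ha
      rw [h𝔭] at ha
      exact ha h3
    exact (IsLocalization.AtPrime.isUnit_mk'_iff B 𝔭 a s).mpr h4
  have hBloc : IsLocalHom (algebraMap R B) := by
    constructor
    intro r hr
    exact isUnit_of_map_unit (algebraMap R Λ) r (hgR r ▸ hr.map g)
  have hsmB : Algebra.FormallySmooth R B := hsm
  have hsepB : Algebra.FormallySmooth (ResidueField R) (ResidueField B) := by
    rw [Groth.Agent.S2451.result]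
    let γ : ResidueField B →+* ResidueField Λ := ResidueField.map g
    let γ' : ResidueField B →ₐ[ResidueField R] ResidueField Λ :=
      { γ with
        commutes' := fun x => by
          obtain ⟨r, rfl⟩ := residue_surjective x
          change γ (residue B (algebraMap R B r)) = residue Λ (algebraMap R Λ r)
          rw [← hgR]
          rfl }
    exact Algebra.IsGeometricallyReduced.of_injective γ' γ'.toRingHom.injective
  have hflB : Module.Flat R B := by
    have : Module.Flat A B := IsLocalization.flat _ 𝔭.primeCompl
    exact Module.Flat.trans R A B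
  have hregB : IsSMulRegular B (algebraMap R B π) := by
    apply IsSMulRegular.of_flat
    exact mul_right_injective₀ hπ0
  have hmapB : 𝔭.map (algebraMap A B) = maximalIdeal B := Localization.AtPrime.map_eq_maximalIdeal
  have h1 := fiber' π hπ hregB _ hmapB (algebraMap A B (algebraMap R A π))
    (IsScalarTower.algebraMap_apply R A B π).symm
  obtain ⟨inst, hCet, hcomp⟩ := BlowLoc.exists_formallyEtale 𝔭 (algebraMap R A π) hπ𝔭 𝔭 𝔭' h' C
  have hR := fun r : R => hcomp (algebraMap R A r)
  have hlies : 𝔭'.LiesOver (maximalIdeal R) := by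
    constructor
    rw [Ideal.under_def, IsScalarTower.algebraMap_eq R A A', ← Ideal.comap_comap, h', h𝔭,
      Ideal.comap_comap, ← IsScalarTower.algebraMap_eq, maximalIdeal_comap]
  have hfp : Algebra.FinitePresentation R A' := by
    have : Algebra.FiniteType A A' := finiteType_affineAlgebra 𝔭 _ hπ𝔭
    have : Algebra.FiniteType R A' := Algebra.FiniteType.trans (S := A) inferInstance inferInstance
    exact Algebra.FinitePresentation.of_finiteType.mp this
  have hflat : Module.Flat R C := by
    have : Module.Flat R A' := flat_affineAlgebra 𝔭 _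
    have : Module.Flat A' C := IsLocalization.flat _ 𝔭'.primeCompl
    exact Module.Flat.trans R A' C
  have h2 : Algebra.FormallySmooth (maximalIdeal R).ResidueField
      ((maximalIdeal R).ResidueField ⊗[R] C) := by
    have h3 : Algebra.FormallySmooth (ResidueField R) (ResidueField R ⊗[R] C) :=
      formallySmooth_tensor' inst hCet h1 hR
    exact formallySmooth_residueField (R := R) (C := C)
  exact Groth.Agent.Flat2E.SmoothInf.isSmoothAt_of_flat_of_formallySmooth (maximalIdeal R) 𝔭'

end K359.Neron
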