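import Groth.Agent.S0536
import Groth.Agent.S0525
import Groth.Agent.S2043
import Mathlib.RingTheory.Etale.Basic
import Mathlib.RingTheory.FinitePresentation

/-!
# Approximating a point of a smooth algebra in a complete local ring by an étale algebra

`R → C` with `C` henselian along `𝔫`, in which fractions of `R` (denominators outside the prime `p`)
are dense, `B` smooth over `R` and `h : B → C`. Then for every `M` there is an étale `R`-algebra `R'`
with a map `B → R'` and a map `R' → C` whose composite agrees with `h` modulo `𝔫 ^ M`.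
-/

set_option autoImplicit false

universe u

open TensorProduct

namespace K359.EtaleApprox

variable {R C B : Type u} [CommRing R] [CommRing C] [Algebra R C]

/-- The last step: a section modulo `I` gives the étale algebra. -/
theorem aux [CommRing B] [Algebra R B] [Algebra.Smooth R B]
    (𝔫 : Ideal C) [HenselianRing C 𝔫] (h : B →ₐ[R] C) (M : ℕ) (hM : 0 < M)
    {A : Type u} [CommRing A] [Algebra R A] [Algebra.Etale R A] [Algebra A C] [IsScalarTower R A C]
    (I : Ideal A) (hI : I.map (algebraMap A C) ≤ 𝔫 ^ M) (σ : B →ₐ[R] A ⧸ I)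
    (hσ : ∀ (b : B) (a : A), Ideal.Quotient.mk I a = σ b → h b - algebraMap A C a ∈ 𝔫 ^ M) :
    ∃ (R' : Type u) (_ : CommRing R') (_ : Algebra R R') (_ : Algebra A R')
      (_ : IsScalarTower R A R'), Algebra.Etale R R' ∧
      ∃ (ψ : R' →ₐ[A] C) (τ : B →ₐ[R] R'), (∀ b, h b - ψ (τ b) ∈ 𝔫 ^ M) ∧
        ∀ x : R', ∃ a : A, ψ (x - algebraMap A R' a) ∈ 𝔫 ^ M := by
  let σ' : A ⊗[R] B →ₐ[A] A ⧸ I :=
    Algebra.TensorProduct.lift (Algebra.ofId A (A ⧸ I)) σ (fun _ _ => Commute.all _ _)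
  have hσ' : ∀ b : B, σ' (1 ⊗ₜ b) = σ b := fun b => by
    change Algebra.TensorProduct.lift _ _ _ ((1 : A) ⊗ₜ[R] b) = _
    rw [Algebra.TensorProduct.lift_tmul, map_one, one_mul]
  obtain ⟨A', _, _, hA', hbij, τ, hτ⟩ := Groth.Agent.S2043.result I σ'
  have hens : HenselianRing C (𝔫 ^ M) := by
    rw [← Groth.Agent.S0525.result C 𝔫 (𝔫 ^ M) (Ideal.radical_pow 𝔫 hM.ne').symm]
    infer_instance
  -- `A/I → C/𝔫^M`
  let q : A ⧸ I →ₐ[A] C ⧸ 𝔫 ^ M := Ideal.Quotient.liftₐ I (Algebra.ofId A (C ⧸ 𝔫 ^ M)) (by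
    intro a ha
    change Ideal.Quotient.mk (𝔫 ^ M) (algebraMap A C a) = 0
    rw [Ideal.Quotient.eq_zero_iff_mem]
    exact hI (Ideal.mem_map_of_mem _ ha))
  have hq : ∀ a, q (Ideal.Quotient.mk I a) = Ideal.Quotient.mk (𝔫 ^ M) (algebraMap A C a) :=
    fun a => rfl
  let E : (A ⧸ I) ≃ₐ[A] (A' ⧸ I.map (algebraMap A A')) :=
    AlgEquiv.ofBijective (IsScalarTower.toAlgHom A (A ⧸ I) (A' ⧸ I.map (algebraMap A A'))) hbij
  obtain ⟨ψ, hψ⟩ := Groth.Agent.S0536.result A A' C (𝔫 ^ M)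
    ((q.comp (E.symm : _ →ₐ[A] A ⧸ I)).comp (Ideal.Quotient.mkₐ A (I.map (algebraMap A A'))))
  have hψ' : ∀ (x : A') (a : A),
      Ideal.Quotient.mk (I.map (algebraMap A A')) x =
        algebraMap (A ⧸ I) (A' ⧸ I.map (algebraMap A A')) (Ideal.Quotient.mk I a) →
      ψ x - algebraMap A C a ∈ 𝔫 ^ M := by
    intro x a hxa
    rw [← Ideal.Quotient.eq]
    have h1 := DFunLike.congr_fun hψ x
    have h2 : E.symm (Ideal.Quotient.mk (I.map (algebraMap A A')) x) = Ideal.Quotient.mk I a := by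
      rw [AlgEquiv.symm_apply_eq]
      exact hxa
    change Ideal.Quotient.mk (𝔫 ^ M) (ψ x) =
      q (E.symm (Ideal.Quotient.mk (I.map (algebraMap A A')) x)) at h1
    rw [h1, h2, hq]
  let _ : Algebra R A' := ((algebraMap A A').comp (algebraMap R A)).toAlgebra
  have : IsScalarTower R A A' := IsScalarTower.of_algebraMap_eq fun _ => rfl
  refine ⟨A', inferInstance, inferInstance, inferInstance, inferInstance,
    Algebra.Etale.comp R A A', ψ, (τ.restrictScalars R).comp Algebra.TensorProduct.includeRight,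
    ?_, ?_⟩
  · intro b
    obtain ⟨a, ha⟩ := Ideal.Quotient.mk_surjective (σ b)
    have h1 := hσ b a ha
    have h2 := hψ' (τ (1 ⊗ₜ b)) a (by rw [hτ, hσ', ha])
    have h3 : h b - ψ (τ (1 ⊗ₜ b)) = (h b - algebraMap A C a) - (ψ (τ (1 ⊗ₜ b)) - algebraMap A C a) := by
      ring
    change h b - ψ (τ (1 ⊗ₜ b)) ∈ 𝔫 ^ M
    rw [h3]
    exact Ideal.sub_mem _ h1 h2
  · intro x
    obtain ⟨y, hy⟩ := hbij.2 (Ideal.Quotient.mk _ x)
    obtain ⟨a, rfl⟩ := Ideal.Quotient.mk_surjective y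
    refine ⟨a, ?_⟩
    rw [map_sub, ψ.commutes]
    exact hψ' x a hy.symm

/-- Approximation of a map from a smooth algebra to a henselian ring `C` in which fractions of `R` are
dense by a map to an étale algebra. -/
theorem main [CommRing B] [Algebra R B] [Algebra.Smooth R B]
    (𝔫 : Ideal C) [HenselianRing C 𝔫] (h : B →ₐ[R] C) (p : Ideal R) [p.IsPrime]
    (hunit : ∀ s : R, s ∉ p → IsUnit (algebraMap R C s))
    (hp : p.map (algebraMap R C) ≤ 𝔫)
    (dens : ∀ (c : C) (M : ℕ), ∃ r s : R, s ∉ p ∧ algebraMap R C s * c - algebraMap R C r ∈ 𝔫 ^ M)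
    (inter : ∀ (x : R) (M : ℕ), algebraMap R C x ∈ 𝔫 ^ M → ∃ s : R, s ∉ p ∧ s * x ∈ p ^ M)
    (M : ℕ) (hM : 0 < M) :
    ∃ (R' : Type u) (_ : CommRing R') (_ : Algebra R R'), Algebra.Etale R R' ∧
      ∃ (ψ : R' →ₐ[R] C) (τ : B →ₐ[R] R'), (∀ b, h b - ψ (τ b) ∈ 𝔫 ^ M) ∧
        ∀ x : R', ∃ r s : R, s ∉ p ∧ ψ (algebraMap R R' s * x - algebraMap R R' r) ∈ 𝔫 ^ M := by
  classical
  obtain ⟨n, f, hf, hker⟩ := (inferInstance : Algebra.FinitePresentation R B).out
  obtain ⟨G, hG⟩ := hker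
  choose r s hs hrs using fun i : Fin n => dens (h (f (MvPolynomial.X i))) M
  -- the common denominator
  let s₀ : R := ∏ i, s i
  have hs₀ : s₀ ∉ p := by
    intro hmem
    obtain ⟨i, -, hi⟩ := (Ideal.IsPrime.prod_mem_iff).mp hmem
    exact hs i hi
  let A₀ := Localization.Away s₀
  let e₀ : A₀ →+* C := IsLocalization.Away.lift s₀ (hunit s₀ hs₀)
  have he₀ : ∀ x : R, e₀ (algebraMap R A₀ x) = algebraMap R C x := fun x =>
    IsLocalization.Away.lift_eq s₀ (hunit s₀ hs₀) x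
  have hs0i : ∀ i, IsUnit (algebraMap R A₀ (s i)) := fun i =>
    isUnit_of_dvd_unit (map_dvd _ (Finset.dvd_prod_of_mem s (Finset.mem_univ i)))
      (IsLocalization.Away.algebraMap_isUnit s₀)
  let a : Fin n → A₀ := fun i => algebraMap R A₀ (r i) * ((hs0i i).unit⁻¹ : A₀ˣ)
  have ha : ∀ i, algebraMap R A₀ (s i) * a i = algebraMap R A₀ (r i) := fun i => by
    have : algebraMap R A₀ (s i) * ((hs0i i).unit⁻¹ : A₀ˣ) = 1 := (hs0i i).mul_val_inv
    calc algebraMap R A₀ (s i) * (algebraMap R A₀ (r i) * ((hs0i i).unit⁻¹ : A₀ˣ))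
        = algebraMap R A₀ (r i) * (algebraMap R A₀ (s i) * ((hs0i i).unit⁻¹ : A₀ˣ)) := by ring
      _ = _ := by rw [this, mul_one]
  have ha' : ∀ i, h (f (MvPolynomial.X i)) - e₀ (a i) ∈ 𝔫 ^ M := by
    intro i
    have hu := hunit (s i) (hs i)
    have h1 : algebraMap R C (s i) * (h (f (MvPolynomial.X i)) - e₀ (a i)) ∈ 𝔫 ^ M := by
      have h2 := congrArg e₀ (ha i)
      rw [map_mul, he₀, he₀] at h2
      rw [mul_sub, h2]
      exact hrs i
    obtain ⟨v, hv⟩ := hu
    rw [← hv] at h1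
    have h3 := Ideal.mul_mem_left _ ((v⁻¹ : Cˣ) : C) h1
    rwa [← mul_assoc, Units.inv_mul, one_mul] at h3
  -- evaluation of polynomials at `a`
  have hev : ∀ F : MvPolynomial (Fin n) R, h (f F) - e₀ (MvPolynomial.aeval a F) ∈ 𝔫 ^ M := by
    intro F
    induction F using MvPolynomial.induction_on with
    | C x =>
      have h1 : f (MvPolynomial.C x) = algebraMap R B x := f.commutes x
      have h2 : MvPolynomial.aeval a (MvPolynomial.C x) = algebraMap R A₀ x := by simp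
      rw [h1, h2, h.commutes, he₀, sub_self]
      exact Submodule.zero_mem _
    | add F G hF hG =>
      have : h (f (F + G)) - e₀ (MvPolynomial.aeval a (F + G)) =
          (h (f F) - e₀ (MvPolynomial.aeval a F)) + (h (f G) - e₀ (MvPolynomial.aeval a G)) := by
        simp only [map_add]; ring
      rw [this]
      exact Ideal.add_mem _ hF hG
    | mul_X F i hF =>
      have : h (f (F * MvPolynomial.X i)) - e₀ (MvPolynomial.aeval a (F * MvPolynomial.X i)) =
          h (f (MvPolynomial.X i)) * (h (f F) - e₀ (MvPolynomial.aeval a F)) +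
            e₀ (MvPolynomial.aeval a F) * (h (f (MvPolynomial.X i)) - e₀ (a i)) := by
        simp only [map_mul, MvPolynomial.aeval_X]; ring
      rw [this]
      exact Ideal.add_mem _ (Ideal.mul_mem_left _ _ hF) (Ideal.mul_mem_left _ _ (ha' i))
  have hG0 : ∀ F ∈ G, ∃ t : R, t ∉ p ∧
      algebraMap R A₀ t * MvPolynomial.aeval a F ∈ (p ^ M).map (algebraMap R A₀) := by
    intro F hF
    have hfF : f F = 0 := by
      have : F ∈ RingHom.ker f.toRingHom := by
        rw [← hG]; exact Ideal.subset_span hF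
      exact this
    have h1 := hev F
    rw [hfF, map_zero, zero_sub, Ideal.neg_mem_iff] at h1
    obtain ⟨N, y, hy⟩ := IsLocalization.Away.surj s₀ (MvPolynomial.aeval a F)
    have h2 : algebraMap R C y ∈ 𝔫 ^ M := by
      rw [← he₀, ← hy, map_mul]
      exact Ideal.mul_mem_right _ _ h1
    obtain ⟨t, ht, hty⟩ := inter y M h2
    refine ⟨t, ht, ?_⟩
    have hu : IsUnit (algebraMap R A₀ s₀ ^ N) := (IsLocalization.Away.algebraMap_isUnit s₀).pow N
    have h3 : algebraMap R A₀ t * MvPolynomial.aeval a F * algebraMap R A₀ s₀ ^ N ∈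
        (p ^ M).map (algebraMap R A₀) := by
      rw [mul_assoc, hy, ← map_mul]
      exact Ideal.mem_map_of_mem _ hty
    exact ((Ideal.mul_unit_mem_iff_mem _ hu).mp h3)
  choose t ht htF using hG0
  let t₀ : R := ∏ F : G, t F.1 F.2
  have ht₀ : t₀ ∉ p := by
    intro hmem
    obtain ⟨F, -, hF⟩ := (Ideal.IsPrime.prod_mem_iff).mp hmem
    exact ht F.1 F.2 hF
  let A₁ := Localization.Away (algebraMap R A₀ t₀)
  have hut : IsUnit (e₀ (algebraMap R A₀ t₀)) := by rw [he₀]; exact hunit t₀ ht₀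
  let e₁ : A₁ →+* C := IsLocalization.Away.lift (algebraMap R A₀ t₀) hut
  have he₁ : ∀ x : A₀, e₁ (algebraMap A₀ A₁ x) = e₀ x := fun x =>
    IsLocalization.Away.lift_eq (algebraMap R A₀ t₀) hut x
  let _ : Algebra A₁ C := e₁.toAlgebra
  have halg : ∀ x : R, algebraMap A₁ C (algebraMap R A₁ x) = algebraMap R C x := by
    intro x
    rw [IsScalarTower.algebraMap_apply R A₀ A₁]
    exact (he₁ _).trans (he₀ x)
  have : IsScalarTower R A₁ C := IsScalarTower.of_algebraMap_eq fun x => (halg x).symm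
  have : Algebra.Etale R A₀ := Algebra.Etale.of_isLocalizationAway s₀
  have : Algebra.Etale A₀ A₁ := Algebra.Etale.of_isLocalizationAway (algebraMap R A₀ t₀)
  have : Algebra.Etale R A₁ := Algebra.Etale.comp R A₀ A₁
  let I : Ideal A₁ := (p ^ M).map (algebraMap R A₁)
  let α : Fin n → A₁ := fun i => algebraMap A₀ A₁ (a i)
  have hα : ∀ F : MvPolynomial (Fin n) R, MvPolynomial.aeval α F =
      algebraMap A₀ A₁ (MvPolynomial.aeval a F) := by
    intro F
    exact (MvPolynomial.aeval_algebraMap_apply A₁ a F)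
  have hker : ∀ F ∈ RingHom.ker f.toRingHom, MvPolynomial.aeval α F ∈ I := by
    have : RingHom.ker f.toRingHom ≤ I.comap (MvPolynomial.aeval α : MvPolynomial (Fin n) R →ₐ[R] A₁) := by
      rw [← hG, Ideal.span_le]
      intro F hF
      change MvPolynomial.aeval α F ∈ I
      rw [hα]
      have h1 := Ideal.mem_map_of_mem (algebraMap A₀ A₁) (htF F hF)
      rw [Ideal.map_map, ← IsScalarTower.algebraMap_eq, map_mul,
        ← IsScalarTower.algebraMap_apply] at h1
      have hu : IsUnit (algebraMap R A₁ (t F hF)) := by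
        refine isUnit_of_dvd_unit (map_dvd _ (Finset.dvd_prod_of_mem (fun F : G => t F.1 F.2)
          (Finset.mem_univ (⟨F, hF⟩ : G)))) ?_
        rw [IsScalarTower.algebraMap_apply R A₀ A₁]
        exact IsLocalization.Away.algebraMap_isUnit (algebraMap R A₀ t₀)
      exact ((Ideal.unit_mul_mem_iff_mem _ hu).mp h1)
    exact this
  let σ₀ : (MvPolynomial (Fin n) R ⧸ RingHom.ker f) →ₐ[R] A₁ ⧸ I :=
    Ideal.Quotient.liftₐ (RingHom.ker f)
      ((Ideal.Quotient.mkₐ R I).comp (MvPolynomial.aeval α)) (fun F hF => by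
        change Ideal.Quotient.mk I (MvPolynomial.aeval α F) = 0
        rw [Ideal.Quotient.eq_zero_iff_mem]
        exact hker F hF)
  let σ : B →ₐ[R] A₁ ⧸ I := σ₀.comp (Ideal.quotientKerAlgEquivOfSurjective hf).symm.toAlgHom
  have hσf : ∀ F, σ (f F) = Ideal.Quotient.mk I (MvPolynomial.aeval α F) := by
    intro F
    have h1 : (Ideal.quotientKerAlgEquivOfSurjective hf).symm (f F) =
        Ideal.Quotient.mk _ F := by
      rw [AlgEquiv.symm_apply_eq]
      rfl
    change σ₀ ((Ideal.quotientKerAlgEquivOfSurjective hf).symm (f F)) = _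
    rw [h1]
    rfl
  have hIC : I.map (algebraMap A₁ C) ≤ 𝔫 ^ M := by
    rw [Ideal.map_map, ← IsScalarTower.algebraMap_eq, Ideal.map_pow]
    exact Ideal.pow_right_mono hp M
  obtain ⟨R', _, _, _, _, hR', ψ, τ, h1, h2⟩ := aux 𝔫 h M hM I hIC σ (by
    intro b y hy
    obtain ⟨F, rfl⟩ := hf b
    rw [hσf, Ideal.Quotient.eq] at hy
    have h3 := hev F
    have h4 := hIC (Ideal.mem_map_of_mem (algebraMap A₁ C) hy)
    rw [map_sub, hα] at h4
    have h5 : algebraMap A₁ C (algebraMap A₀ A₁ (MvPolynomial.aeval a F)) =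
        e₀ (MvPolynomial.aeval a F) := he₁ _
    rw [h5] at h4
    have h6 : h (f F) - algebraMap A₁ C y = (h (f F) - e₀ (MvPolynomial.aeval a F)) -
        (algebraMap A₁ C y - e₀ (MvPolynomial.aeval a F)) := by ring
    rw [h6]
    exact Ideal.sub_mem _ h3 h4)
  refine ⟨R', inferInstance, inferInstance, hR', ψ.restrictScalars R, τ, h1, ?_⟩
  intro x
  obtain ⟨y, hy⟩ := h2 x
  obtain ⟨N₁, y₀, hy₀⟩ := IsLocalization.Away.surj (algebraMap R A₀ t₀) y
  obtain ⟨N₀, z, hz⟩ := IsLocalization.Away.surj s₀ y₀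
  refine ⟨z, s₀ ^ N₀ * t₀ ^ N₁, ?_, ?_⟩
  · intro hmem
    rcases (inferInstance : p.IsPrime).mem_or_mem hmem with h | h
    · exact hs₀ ((inferInstance : p.IsPrime).mem_of_pow_mem _ h)
    · exact ht₀ ((inferInstance : p.IsPrime).mem_of_pow_mem _ h)
  · have h3 : algebraMap R A₁ (s₀ ^ N₀ * t₀ ^ N₁) * y = algebraMap R A₁ z := by
      have e1 : algebraMap R A₁ z = algebraMap A₀ A₁ y₀ * algebraMap R A₁ s₀ ^ N₀ := by
        rw [IsScalarTower.algebraMap_apply R A₀ A₁ z, ← hz, map_mul, map_pow,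
          ← IsScalarTower.algebraMap_apply]
      rw [e1, ← hy₀, ← IsScalarTower.algebraMap_apply, map_mul, map_pow, map_pow]
      ring
    have h4 : algebraMap R R' (s₀ ^ N₀ * t₀ ^ N₁) * x - algebraMap R R' z =
        algebraMap R R' (s₀ ^ N₀ * t₀ ^ N₁) * (x - algebraMap A₁ R' y) := by
      have e2 : algebraMap R R' z = algebraMap R R' (s₀ ^ N₀ * t₀ ^ N₁) * algebraMap A₁ R' y := by
        rw [IsScalarTower.algebraMap_apply R A₁ R' z, ← h3, map_mul (algebraMap A₁ R'),
          ← IsScalarTower.algebraMap_apply R A₁ R']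
      rw [e2]
      ring
    rw [h4]
    change ψ _ ∈ _
    rw [map_mul]
    exact Ideal.mul_mem_left _ _ hy

end K359.EtaleApprox
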