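import Groth.Agent.LoccohB.GorBasic
import Groth.Agent.S5802
import Groth.Agent.Sga2.RegExt2

set_option autoImplicit false
universe u

open IsLocalRing RingTheory.Sequence

namespace K359.NeronSeq

/-- If `π` is a nonzerodivisor with `B ⧸ (π)` regular local, then `π` extends to a quasi-regular
generating family of the maximal ideal. -/
theorem exists_quasiRegular {B : Type u} [CommRing B] [IsLocalRing B] [IsNoetherianRing B] (π : B)
    (hπm : π ∈ maximalIdeal B) (hπ : IsSMulRegular B π)
    (hreg : IsRegularLocalRing (B ⧸ Ideal.span {π})) :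
    ∃ (c : ℕ) (f : Fin (c + 1) → B), CAlgX.IsQuasiRegular f ∧ f 0 = π ∧
      Ideal.span (Set.range f) = maximalIdeal B := by
  obtain ⟨d, hd⟩ : ∃ d : ℕ, ringKrullDim (B ⧸ Ideal.span {π}) = d := by
    have := hreg
    exact ⟨_, (IsRegularLocalRing.spanFinrank_maximalIdeal (R := B ⧸ Ideal.span {π})).symm⟩
  obtain ⟨rs, hl, hrs, hrs'⟩ := Groth.Agent.Sga2.RegExt.exists_regular_system d hd
  let φ := Ideal.Quotient.mk (Ideal.span {π})
  have hφ : Function.Surjective φ := Ideal.Quotient.mk_surjective
  let l := rs.map (Function.surjInv hφ)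
  have hlφ : l.map φ = rs := by
    rw [List.map_map]
    conv_rhs => rw [← List.map_id rs]
    congr 1
    ext x
    exact Function.surjInv_eq hφ x
  have hw : IsWeaklyRegular B (π :: l) := by
    rw [Groth.Agent.LoccohB.GorBasic.isWeaklyRegular_self_cons_iff]
    exact ⟨hπ, by rw [hlφ]; exact hrs'.1⟩
  refine ⟨l.length, (π :: l).get, ?_, rfl, ?_⟩
  · apply Groth.Agent.S5802.result
    rwa [List.ofFn_get]
  · rw [Set.range_list_get]
    change Ideal.ofList (π :: l) = _
    have h1 : (Ideal.ofList (π :: l)).map φ = (maximalIdeal B).map φ := by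
      rw [IsLocalRing.map_maximalIdeal_of_surjective φ hφ, Ideal.map_ofList, List.map_cons, hlφ,
        Ideal.ofList_cons, hrs]
      have : φ π = 0 := by
        rw [Ideal.Quotient.eq_zero_iff_mem]; exact Ideal.mem_span_singleton_self π
      rw [this]; simp
    have h2 := congrArg (Ideal.comap φ) h1
    rw [Ideal.comap_map_of_surjective φ hφ, Ideal.comap_map_of_surjective φ hφ,
      ← RingHom.ker_eq_comap_bot, Ideal.mk_ker] at h2
    rw [sup_eq_left.mpr, sup_eq_left.mpr] at h2
    · exact h2
    · rwa [Ideal.span_singleton_le_iff_mem]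
    · rw [Ideal.span_singleton_le_iff_mem, Ideal.ofList_cons]
      exact Ideal.mem_sup_left (Ideal.mem_span_singleton_self π)

end K359.NeronSeq
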