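import Groth.Agent.CalgA.PopSepMod
import Groth.Agent.CalgA.PopCharZero
import Groth.Agent.Ega4A.InsepReduction
import Groth.Agent.Smoothing.K359.DVRReg
import Groth.Agent.S0595
import Groth.Agent.CalgB.QuasiRegular

/-!
Resolving the local problem over a field when the residue field is separable over the base field.
(Separable version of `CalgA.PopSepMod` and `CalgA.PopCharZero`.)
-/

set_option autoImplicit false
universe u

open TensorProduct IsLocalRing

namespace K359.SepMod

open Smoothing Groth.Agent.CalgA Groth.Agent.CalgA.PopRing Groth.Agent.CalgA.PopFlat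
  Groth.Agent.CalgA.PopSepMod

/-- A geometrically reduced field extension is ind-smooth. -/
theorem indSmooth_of_isField (k K : Type u) [Field k] [CommRing K] [Algebra k K] (hK : IsField K)
    [Algebra.IsGeometricallyReduced k K] : Smoothing.IndSmooth k K := by
  have hn : IsNoetherianRing K := by
    let := hK.toField
    infer_instance
  exact Groth.Agent.S0595.indSmooth_field k K
    (K359.DVRReg.isGeometricallyRegular_of_isField k K hK)

/-- Geometric reducedness of the residue field after reduction modulo `J`. -/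
theorem isGeometricallyReduced_mod {k Λ : Type u} [Field k] [CommRing Λ] [Algebra k Λ]
    (q : Ideal Λ) [q.IsPrime] [Algebra.IsGeometricallyReduced k q.ResidueField]
    (J : Ideal Λ) (hJq : J ≤ q) [(q.map (Ideal.Quotient.mk J)).IsPrime]
    (k' A' : Type u) [Field k'] [CommRing A'] [Algebra k' A'] [Algebra k k'] [Algebra k A']
    (htower : ∀ t : k, algebraMap k' A' (algebraMap k k' t) = algebraMap k A' t)
    (hk : Function.Surjective (algebraMap k k'))
    (f : ResidueField (Localization.AtPrime (q.map (Ideal.Quotient.mk J))) ≃ₐ[k] A') :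
    Algebra.IsGeometricallyReduced k' A' := by
  have hbij : Function.Bijective (Ideal.ResidueField.map q (q.map (Ideal.Quotient.mk J))
      (Ideal.Quotient.mk J) (by
        rw [Ideal.comap_map_of_surjective _ Ideal.Quotient.mk_surjective, ← RingHom.ker_eq_comap_bot,
          Ideal.mk_ker, sup_eq_left.mpr hJq])) :=
    RingHom.SurjectiveOnStalks.residueFieldMap_bijective
      (RingHom.surjectiveOnStalks_of_surjective Ideal.Quotient.mk_surjective) _ _ _
  let g : q.ResidueField ≃+* (q.map (Ideal.Quotient.mk J)).ResidueField :=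
    RingEquiv.ofBijective _ hbij
  let e : k ≃+* k' := RingEquiv.ofBijective (algebraMap k k') ⟨(algebraMap k k').injective, hk⟩
  refine Groth.Agent.Ega4A.InsepReduction.isGeometricallyReduced_of_equiv (k := k)
    (A := q.ResidueField) e.symm
    ((f.symm.toRingEquiv : A' ≃+* (q.map (Ideal.Quotient.mk J)).ResidueField).trans g.symm) ?_
  intro x
  obtain ⟨t, rfl⟩ := e.surjective x
  rw [e.symm_apply_apply]
  change g.symm (f.symm (algebraMap k' A' (algebraMap k k' t))) = _
  rw [htower, AlgEquiv.commutes, RingEquiv.symm_apply_eq]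
  change _ = Ideal.ResidueField.map _ _ _ _ (algebraMap k q.ResidueField t)
  rw [IsScalarTower.algebraMap_apply k Λ q.ResidueField, Ideal.ResidueField.map_algebraMap]
  rfl

/-- The separable residue field version of `PopSepMod.resolvable_mod`. -/
theorem resolvable_mod (k : Type u) [Field k] (d : ℕ) (Λ : Type u) [CommRing Λ] [Algebra k Λ]
    [Algebra (MvPolynomial (Fin d) k) Λ] [IsScalarTower k (MvPolynomial (Fin d) k) Λ]
    (q : Ideal Λ) [q.IsPrime] [Algebra.IsGeometricallyReduced k q.ResidueField]
    [IsRegularLocalRing (Localization.AtPrime q)] (hd : ringKrullDim (Localization.AtPrime q) = d)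
    (hgen : (MvPolynomial.idealOfVars (Fin d) k).map
      (algebraMap (MvPolynomial (Fin d) k) (Localization.AtPrime q)) =
      maximalIdeal (Localization.AtPrime q))
    (J : Ideal (MvPolynomial (Fin d) k)) (hJ : J ≤ MvPolynomial.idealOfVars (Fin d) k) (n : ℕ)
    (hn : (MvPolynomial.idealOfVars (Fin d) k) ^ n ≤ J)
    [(q.map (Ideal.Quotient.mk (J.map (algebraMap (MvPolynomial (Fin d) k) Λ)))).IsPrime]
    (A : Type u) [CommRing A] [Algebra (MvPolynomial (Fin d) k ⧸ J) A]
    [Algebra.FinitePresentation (MvPolynomial (Fin d) k ⧸ J) A]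
    (φ : A →ₐ[MvPolynomial (Fin d) k ⧸ J] Λ ⧸ J.map (algebraMap (MvPolynomial (Fin d) k) Λ)) :
    Resolvable (MvPolynomial (Fin d) k ⧸ J) φ
      (q.map (Ideal.Quotient.mk (J.map (algebraMap (MvPolynomial (Fin d) k) Λ)))) := by
  obtain ⟨hloc, hmaxeq, hnil⟩ := isLocalRing_quotient (MvPolynomial.idealOfVars (Fin d) k) J hJ n hn
  have hJq : J.map (algebraMap (MvPolynomial (Fin d) k) Λ) ≤ q := by
    refine (Ideal.map_mono hJ).trans ?_
    rw [Ideal.map_le_iff_le_comap]
    intro x hx
    have h1 : algebraMap (MvPolynomial (Fin d) k) (Localization.AtPrime q) x ∈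
        maximalIdeal (Localization.AtPrime q) := by
      rw [← hgen]; exact Ideal.mem_map_of_mem _ hx
    rw [IsScalarTower.algebraMap_apply _ Λ (Localization.AtPrime q),
      IsLocalization.AtPrime.to_map_mem_maximal_iff _ q] at h1
    exact h1
  obtain ⟨l, hl1, hl2⟩ := exists_isPO (algebraMap (MvPolynomial (Fin d) k) Λ) J q hJq
  have hflat := flat_mvPolynomial k d (Localization.AtPrime q) hd hgen
  have hflat2 : ((algebraMap Λ (Localization.AtPrime q)).comp
      (algebraMap (MvPolynomial (Fin d) k) Λ)).Flat := by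
    rw [← IsScalarTower.algebraMap_eq, RingHom.flat_algebraMap_iff]
    exact hflat
  have hflat3 := flat_of_isPO hl1 hflat2
  have hflat4 : Module.Flat (MvPolynomial (Fin d) k ⧸ J) (Localization.AtPrime
      (q.map (Ideal.Quotient.mk (J.map (algebraMap (MvPolynomial (Fin d) k) Λ))))) := by
    rw [← RingHom.flat_algebraMap_iff]
    exact hflat3
  have hmax2 : (maximalIdeal (MvPolynomial (Fin d) k ⧸ J)).map
      (algebraMap (MvPolynomial (Fin d) k ⧸ J) (Localization.AtPrime
        (q.map (Ideal.Quotient.mk (J.map (algebraMap (MvPolynomial (Fin d) k) Λ)))))) =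
      maximalIdeal (Localization.AtPrime
        (q.map (Ideal.Quotient.mk (J.map (algebraMap (MvPolynomial (Fin d) k) Λ))))) := by
    have e1 : (algebraMap (MvPolynomial (Fin d) k ⧸ J) (Localization.AtPrime
        (q.map (Ideal.Quotient.mk (J.map (algebraMap (MvPolynomial (Fin d) k) Λ)))))).comp
        (Ideal.Quotient.mk J) = l.comp ((algebraMap Λ (Localization.AtPrime q)).comp
          (algebraMap (MvPolynomial (Fin d) k) Λ)) := hl1.comm
    rw [hmaxeq, Ideal.map_map, e1, ← Ideal.map_map, ← IsScalarTower.algebraMap_eq, hgen,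
      ← Localization.AtPrime.map_eq_maximalIdeal, Ideal.map_map, hl2, ← Ideal.map_map,
      Localization.AtPrime.map_eq_maximalIdeal]
  refine PopArt.resolvable_artinian φ _ hnil hmax2 ?_
  let _ : Field ((MvPolynomial (Fin d) k ⧸ J) ⧸ maximalIdeal (MvPolynomial (Fin d) k ⧸ J)) :=
    Ideal.Quotient.field _
  have hk : Function.Surjective (algebraMap k
      ((MvPolynomial (Fin d) k ⧸ J) ⧸ maximalIdeal (MvPolynomial (Fin d) k ⧸ J))) := by
    intro y
    obtain ⟨y, rfl⟩ := Ideal.Quotient.mk_surjective y
    obtain ⟨y, rfl⟩ := Ideal.Quotient.mk_surjective y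
    refine ⟨MvPolynomial.constantCoeff y, ?_⟩
    have h1 : y - MvPolynomial.C (MvPolynomial.constantCoeff y) ∈
        MvPolynomial.idealOfVars (Fin d) k := by
      rw [Groth.Agent.CalgB.QuasiRegular.mem_idealOfVars_iff]
      simp
    have h2 : Ideal.Quotient.mk J (y - MvPolynomial.C (MvPolynomial.constantCoeff y)) ∈
        maximalIdeal (MvPolynomial (Fin d) k ⧸ J) := by
      rw [hmaxeq]; exact Ideal.mem_map_of_mem _ h1
    rw [← Ideal.Quotient.eq_zero_iff_mem, map_sub, map_sub, sub_eq_zero] at h2
    rw [h2]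
    rfl
  refine @indSmooth_of_isField _ _ _ _ _ ?_ ?_
  · rw [hmax2]
    exact (Ideal.Quotient.maximal_ideal_iff_isField_quotient _).mp inferInstance
  · have t2 : ∀ t : k, algebraMap (MvPolynomial (Fin d) k ⧸ J) (Localization.AtPrime
        (q.map (Ideal.Quotient.mk (J.map (algebraMap (MvPolynomial (Fin d) k) Λ)))))
          (algebraMap k (MvPolynomial (Fin d) k ⧸ J) t) = algebraMap k (Localization.AtPrime
        (q.map (Ideal.Quotient.mk (J.map (algebraMap (MvPolynomial (Fin d) k) Λ))))) t := by
      intro t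
      rw [IsScalarTower.algebraMap_apply k (Λ ⧸ J.map (algebraMap (MvPolynomial (Fin d) k) Λ))
        (Localization.AtPrime (q.map (Ideal.Quotient.mk
          (J.map (algebraMap (MvPolynomial (Fin d) k) Λ))))) t]
      have t1 : algebraMap k (Λ ⧸ J.map (algebraMap (MvPolynomial (Fin d) k) Λ)) t =
          Ideal.Quotient.mk _ (algebraMap (MvPolynomial (Fin d) k) Λ
            (algebraMap k (MvPolynomial (Fin d) k) t)) := by
        rw [← IsScalarTower.algebraMap_apply]
        rfl
      rw [t1]
      rfl
    refine isGeometricallyReduced_mod (k := k) q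
      (J.map (algebraMap (MvPolynomial (Fin d) k) Λ)) hJq _ _
      (fun t => congrArg (Ideal.Quotient.mk _) (t2 t)) hk
      (Ideal.quotientEquivAlgOfEq k hmax2.symm)

end K359.SepMod
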