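import Groth.Agent.Smoothing.K359.SymHasPres
import Groth.Agent.Synt.K563.SynNhd
import Groth.Agent.Synt.K562.Rel5

/-!
The fibres of `Sym_A(K/K²)` over `R` have dimension at most `N`, for `A = R[x_1..x_N]/K` syntomic.
-/

set_option autoImplicit false
universe u v w

open MvPolynomial K563.Pres K563.GCI2 K563.RelNhd K562.Rel TensorProduct Groth.Agent

namespace K359.SymDim

variable {R : Type u} [CommRing R]

attribute [local instance] K563.SynNhd.isLocalRing_fib

theorem FibLE.of_surjective {S T : Type u} [CommRing S] [CommRing T] [Algebra R S] [Algebra R T]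
    {d : ℕ} (h : FibLE R S d) (f : S →ₐ[R] T) (hf : Function.Surjective f) : FibLE R T d := by
  intro p _
  refine le_trans ?_ (h p)
  refine ringKrullDim_le_of_surjective
    (Algebra.TensorProduct.map (AlgHom.id R p.ResidueField) f).toRingHom ?_
  intro x
  obtain ⟨y, hy⟩ := LinearMap.lTensor_surjective p.ResidueField (g := f.toLinearMap) hf x
  exact ⟨y, hy⟩

theorem FibLE.mvPolynomial {S : Type u} [CommRing S] [Algebra R S] [Algebra.FiniteType R S]
    {d : ℕ} (h : FibLE R S d) (c : ℕ) : FibLE R (MvPolynomial (Fin c) S) (d + c) := by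
  intro p _
  let e : p.Fiber (MvPolynomial (Fin c) S) ≃+* MvPolynomial (Fin c) (p.Fiber S) :=
    (MvPolynomial.rTensorAlgEquiv (σ := Fin c) (S := p.ResidueField) (R := R) (N := S)).toRingEquiv
  have : IsNoetherianRing (p.Fiber S) := Algebra.FiniteType.isNoetherianRing p.ResidueField _
  rw [ringKrullDim_eq_of_ringEquiv e, MvPolynomial.ringKrullDim_of_isNoetherianRing]
  push_cast
  rw [Nat.card_fin]
  gcongr
  exact h p

/-- Local structure of a syntomic quotient of a polynomial ring. -/
theorem exists_local {N : ℕ} (K : Ideal (MvPolynomial (Fin N) R)) (hfg : K.FG)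
    (hsyn : Synt.IsSyntomic R (MvPolynomial (Fin N) R ⧸ K))
    (q : Ideal (MvPolynomial (Fin N) R ⧸ K)) [hq : q.IsPrime] :
    ∃ g ∉ q, ∃ (c : ℕ) (F : Fin c → MvPolynomial (Fin N) R), c ≤ N ∧ (∀ i, F i ∈ K) ∧
      (∀ x ∈ K, ∃ y ∈ Ideal.span (Set.range F), ∃ z : MvPolynomial (Fin N) R,
        Ideal.Quotient.mk K z = g ∧ y = z * x) ∧
      FibLE R (Localization.Away g) (N - c) := by
  let O := MvPolynomial (Fin N) R
  let A := O ⧸ K
  obtain ⟨hflat, hfp, hCI⟩ := K563.SynNhd.isSyntomic_iff_fibLocRing.mp hsyn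
  have hfl : Module.Flat R (Localization.AtPrime q) := by
    have : Module.Flat A (Localization.AtPrime q) := IsLocalization.flat _ q.primeCompl
    exact Module.Flat.trans R A _
  let φ : O →ₐ[R] A := Ideal.Quotient.mkₐ R K
  have hφ : Function.Surjective φ := Ideal.Quotient.mk_surjective
  have hker : RingHom.ker φ.toRingHom = K := Ideal.mk_ker
  let P' : Ideal O := q.comap φ
  have hP' : P'.IsPrime := Ideal.comap_isPrime _ _
  have hreg := Ega43.FibSpec.isRegularLocalRing_fib P'
  obtain ⟨c, F, hF, hmap, hdim, -⟩ := exists_lift φ q P' rfl hφ (by rw [hker]; exact hfg) hreg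
    (hCI q)
  let p := q.comap (algebraMap R A)
  obtain ⟨Q, hQ, hctr⟩ := Ega4C.FibreTower.exists_prime_fibre p q rfl
  have hld := localDim_add_eq φ hφ p Q q hctr P' rfl hdim
  obtain ⟨h, hhP', hh⟩ := exists_mul_mem_of_map_le P' (RingHom.ker φ.toRingHom)
    (Ideal.span (Set.range F)) (by rw [hker]; exact hfg) hmap.le
  obtain ⟨hcn, hld'⟩ := natCast_sub_of_add (Ega43.FibChev.zero_le_localDim _) hld
  obtain ⟨g₂, hg₂, hd⟩ := K562.Rel.exists_away_fiber_dim_le p Q q hctr (N - c) hld'.le
  obtain ⟨e'⟩ := nonempty_away_mul g₂ (φ h)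
  obtain ⟨z₂, rfl⟩ := hφ g₂
  refine ⟨φ z₂ * φ h, fun hm => (hq.mem_or_mem hm).elim hg₂ hhP', c, F, hcn, ?_, ?_, ?_⟩
  · intro i
    exact Ideal.Quotient.eq_zero_iff_mem.mp (hF i)
  · intro x hx
    refine ⟨z₂ * (h * x), Ideal.mul_mem_left _ _ (hh x (Ideal.Quotient.eq_zero_iff_mem.mpr hx)), z₂ * h, map_mul _ _ _, by ring⟩
  · intro p' _
    rw [← ringKrullDim_fiber_eq (e'.restrictScalars R) p']
    exact (ringKrullDim_fiber_away_le _ p').trans (hd p')

attribute [local instance] SymHasPres.tower_cotangent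

/-- Generators of `Sym_A(P)` away from `g`. -/
theorem exists_surjective {A : Type u} [CommRing A] [Algebra R A] {P : Type u} [AddCommGroup P]
    [Module A P] [Module R P] [IsScalarTower R A P] (g : A) {c : ℕ} (κ : Fin c → P)
    (h : ∀ x : P, g • x ∈ Submodule.span A (Set.range κ)) :
    ∃ σ : MvPolynomial (Fin c) (Localization.Away g) →ₐ[R]
      Localization.Away (algebraMap A (SymmetricAlgebra A P) g), Function.Surjective σ := by
  let B := SymmetricAlgebra A P
  let Bg := Localization.Away (algebraMap A B g)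
  let α : Localization.Away g →ₐ[R] Bg := IsLocalization.liftAlgHom (M := Submonoid.powers g)
    (f := (IsScalarTower.toAlgHom R B Bg).comp (IsScalarTower.toAlgHom R A B)) (by
      rintro ⟨_, n, rfl⟩
      rw [map_pow]
      exact (IsLocalization.Away.algebraMap_isUnit (S := Bg) (algebraMap A B g)).pow n)
  have hα : ∀ a : A, α (algebraMap A _ a) = algebraMap B Bg (algebraMap A B a) := fun a => by
    simp [α, B]
  let σ : MvPolynomial (Fin c) (Localization.Away g) →ₐ[R] Bg :=
    { MvPolynomial.eval₂Hom α.toRingHom (fun i => algebraMap B Bg (SymmetricAlgebra.ι A P (κ i))) with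
      commutes' := fun r => by
        change MvPolynomial.eval₂Hom α.toRingHom _ (C (algebraMap R _ r)) = _
        rw [MvPolynomial.eval₂Hom_C]
        exact α.commutes r }
  have hσC : ∀ a, σ (C a) = α a := fun a => MvPolynomial.eval₂Hom_C _ _ a
  have hσX : ∀ i, σ (X i) = algebraMap B Bg (SymmetricAlgebra.ι A P (κ i)) :=
    fun i => MvPolynomial.eval₂Hom_X' _ _ i
  refine ⟨σ, ?_⟩
  -- inverse of `g`
  have hinv : ∃ u, σ u * algebraMap B Bg (algebraMap A B g) = 1 := by
    refine ⟨C (IsLocalization.Away.invSelf g), ?_⟩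
    rw [hσC, ← hα, ← map_mul, mul_comm, IsLocalization.Away.mul_invSelf, map_one]
  obtain ⟨u, hu⟩ := hinv
  have hA : ∀ a : A, ∃ y, σ y = algebraMap B Bg (algebraMap A B a) := fun a =>
    ⟨C (algebraMap A _ a), by rw [hσC, hα]⟩
  have hspan : ∀ x ∈ Submodule.span A (Set.range κ), ∃ y, σ y = algebraMap B Bg (SymmetricAlgebra.ι A P x) := by
    intro x hx
    induction hx using Submodule.span_induction with
    | mem x hx =>
      obtain ⟨i, rfl⟩ := hx
      exact ⟨X i, hσX i⟩
    | zero => exact ⟨0, by simp⟩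
    | add x y _ _ hx hy =>
      obtain ⟨a, ha⟩ := hx
      obtain ⟨b, hb⟩ := hy
      exact ⟨a + b, by rw [map_add, ha, hb, map_add, map_add]⟩
    | smul a x _ hx =>
      obtain ⟨b, hb⟩ := hx
      obtain ⟨z, hz⟩ := hA a
      exact ⟨z * b, by rw [map_mul, hz, hb, map_smul, Algebra.smul_def, map_mul]⟩
  have hB : ∀ b : B, ∃ y, σ y = algebraMap B Bg b := by
    intro b
    induction b using SymmetricAlgebra.induction with
    | algebraMap r => exact hA r
    | ι x =>
      obtain ⟨y, hy⟩ := hspan _ (h x)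
      refine ⟨u * y, ?_⟩
      rw [map_mul, hy, map_smul, Algebra.smul_def, map_mul, ← mul_assoc, hu, one_mul]
    | mul a b ha hb =>
      obtain ⟨x, hx⟩ := ha
      obtain ⟨y, hy⟩ := hb
      exact ⟨x * y, by rw [map_mul, hx, hy, map_mul]⟩
    | add a b ha hb =>
      obtain ⟨x, hx⟩ := ha
      obtain ⟨y, hy⟩ := hb
      exact ⟨x + y, by rw [map_add, hx, hy, map_add]⟩
  intro z
  obtain ⟨n, b, hb⟩ := IsLocalization.Away.surj (algebraMap A B g) z
  obtain ⟨y, hy⟩ := hB b
  refine ⟨y * u ^ n, ?_⟩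
  rw [map_mul, hy, ← hb, map_pow, mul_assoc, ← mul_pow, mul_comm (algebraMap B Bg _), hu, one_pow,
    mul_one]

theorem fibLE {N : ℕ} (K : Ideal (MvPolynomial (Fin N) R)) (hfg : K.FG)
    (hsyn : Synt.IsSyntomic R (MvPolynomial (Fin N) R ⧸ K)) :
    FibLE R (SymmetricAlgebra (MvPolynomial (Fin N) R ⧸ K) K.Cotangent) N := by
  let A := MvPolynomial (Fin N) R ⧸ K
  let B := SymmetricAlgebra A K.Cotangent
  let good : Set A := {g | FibLE R (Localization.Away (algebraMap A B g)) N}
  have hgood : Ideal.span good = ⊤ := by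
    by_contra hne
    obtain ⟨q, hq, hle⟩ := Ideal.exists_le_maximal _ hne
    obtain ⟨g, hgq, c, F, hcN, hFK, hh, hfib⟩ := exists_local K hfg hsyn q
    apply hgq
    apply hle
    apply Ideal.subset_span
    obtain ⟨σ, hσ⟩ := exists_surjective (R := R) (A := A) (P := K.Cotangent) g
      (fun i => K.toCotangent ⟨F i, hFK i⟩) (by
        intro x
        obtain ⟨⟨x, hx⟩, rfl⟩ := K.toCotangent_surjective x
        obtain ⟨y, hy, z, rfl, hyz⟩ := hh x hx
        rw [Ideal.mem_span_range_iff_exists_fun] at hy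
        obtain ⟨a, ha⟩ := hy
        have h1 : Ideal.Quotient.mk K z • K.toCotangent ⟨x, hx⟩ =
            ∑ i, Ideal.Quotient.mk K (a i) • K.toCotangent ⟨F i, hFK i⟩ := by
          have hmk : ∀ (c : MvPolynomial (Fin N) R) (y : K.Cotangent),
            Ideal.Quotient.mk K c • y = c • y := fun _ _ => rfl
          simp only [hmk, ← map_smul, ← map_sum]
          congr 1
          apply Subtype.ext
          simp only [SetLike.val_smul, smul_eq_mul, AddSubmonoidClass.coe_finsetSum]
          rw [ha, hyz]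
        rw [h1]
        exact Submodule.sum_mem _ fun i _ => Submodule.smul_mem _ _ (Submodule.subset_span ⟨i, rfl⟩))
    have hft : Algebra.FiniteType R (Localization.Away g) := by
      have : Algebra.FiniteType R A := inferInstance
      have : Algebra.FiniteType A (Localization.Away g) := inferInstance
      exact Algebra.FiniteType.trans (S := A) inferInstance inferInstance
    have h2 := FibLE.of_surjective (FibLE.mvPolynomial hfib c) σ hσ
    rwa [Nat.sub_add_cancel hcN] at h2
  refine FibLE.of_span (algebraMap A B '' good) ?_ ?_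
  · rw [← Ideal.map_span, hgood, Ideal.map_top]
  · rintro _ ⟨g, hg, rfl⟩
    exact hg

end K359.SymDim
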