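import Groth.Agent.Smoothing.K359.SymPres
import Groth.Agent.Synt.K563.RelNhd2

/-!
`Sym_A(K/K²)` for `A = R[x_1..x_N]/K` with projective conormal module has a presentation with
`N + m + 1` variables and `m + 1` relations.
-/

set_option autoImplicit false
universe u v w

open MvPolynomial K563.Pres

namespace K359.SymHasPres

lemma hasPres_of_surjective {R S Q : Type u} [CommRing R] [CommRing S] [Algebra R S] [CommRing Q]
    [Algebra R Q] {n c : ℕ} (ε : Q ≃ₐ[R] MvPolynomial (Fin n) R) (ψ : Q →ₐ[R] S)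
    (hψ : Function.Surjective ψ) (h : Q) (hh1 : ψ h = 1) (f : Fin c → Q) (hf : ∀ i, ψ (f i) = 0)
    (hh : ∀ x, ψ x = 0 → h * x ∈ Ideal.span (Set.range f)) : HasPres R S (n + 1) (c + 1) := by
  let φ : MvPolynomial (Fin n) R →ₐ[R] S := ψ.comp ε.symm.toAlgHom
  have hφ : Function.Surjective φ := hψ.comp ε.symm.surjective
  have hφε : ∀ x, φ (ε x) = ψ x := fun x => by simp [φ]
  have key := K563.RelNhd.hasPres_away φ hφ (ε h) (fun i => ε (f i)) (fun i => by rw [hφε, hf])
    (by
      intro x hx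
      have hx' : ψ (ε.symm x) = 0 := hx
      have h1 := Ideal.mem_map_of_mem ε.toRingEquiv.toRingHom (hh _ hx')
      rw [Ideal.map_span] at h1
      have h2 : ε.toRingEquiv.toRingHom (h * ε.symm x) = ε h * x := by
        change ε (h * ε.symm x) = _
        rw [map_mul, AlgEquiv.apply_symm_apply]
      rw [h2] at h1
      refine Ideal.span_mono ?_ h1
      rintro _ ⟨_, ⟨i, rfl⟩, rfl⟩
      exact ⟨i, rfl⟩)
  have hu : IsUnit (φ (ε h)) := by rw [hφε, hh1]; exact isUnit_one
  exact key.of_algEquiv ((IsLocalization.atUnit S (Localization.Away (φ (ε h))) (φ (ε h)) hu).restrictScalars R).symm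

theorem tower_cotangent {R O : Type*} [CommRing R] [CommRing O] [Algebra R O] (K : Ideal O) :
    IsScalarTower R (O ⧸ K) K.Cotangent := by
  refine ⟨fun a b x => ?_⟩
  obtain ⟨b, rfl⟩ := Ideal.Quotient.mk_surjective b
  have h1 : a • Ideal.Quotient.mk K b = Ideal.Quotient.mk K (a • b) := rfl
  have h2 (c : O) (y : K.Cotangent) : Ideal.Quotient.mk K c • y = c • y := rfl
  rw [h1, h2, h2, smul_assoc]

attribute [local instance] tower_cotangent

theorem exists_data {O : Type u} [CommRing O] (K : Ideal O) (hfg : K.FG)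
    [hproj : Module.Projective (O ⧸ K) K.Cotangent] :
    ∃ (m : ℕ) (k : Fin m → O) (hk : Ideal.span (Set.range k) = K) (κ : Fin m → K.Cotangent)
      (s : K.Cotangent →ₗ[O ⧸ K] (Fin m → O ⧸ K)) (e : Fin m → Fin m → O),
      (∀ x, ∑ l, s x l • κ l = x) ∧ (∀ l j, Ideal.Quotient.mk K (e l j) = s (κ j) l) ∧
      (∀ j, ∑ l, e l j * k l - k j ∈ K ^ 2) ∧ (∀ i j, e i j - ∑ l, e i l * e l j ∈ K) ∧
      ∀ j, κ j = K.toCotangent ⟨k j, hk ▸ Ideal.subset_span ⟨j, rfl⟩⟩ := by
  let A := O ⧸ K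
  obtain ⟨m, k, hk⟩ := Submodule.fg_iff_exists_fin_generating_family.mp hfg
  have hk' : Ideal.span (Set.range k) = K := hk
  have hkK : ∀ j, k j ∈ K := fun j => hk' ▸ Ideal.subset_span ⟨j, rfl⟩
  let κ : Fin m → K.Cotangent := fun j => K.toCotangent ⟨k j, hkK j⟩
  have hmk : ∀ (c : O) (y : K.Cotangent), Ideal.Quotient.mk K c • y = c • y := fun _ _ => rfl
  have hcomb : ∀ c : Fin m → O, ∑ l, Ideal.Quotient.mk K (c l) • κ l =
      K.toCotangent ⟨∑ l, c l * k l, Ideal.sum_mem _ fun l _ => K.mul_mem_left _ (hkK l)⟩ := by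
    intro c
    have : (⟨∑ l, c l * k l, Ideal.sum_mem _ fun l _ => K.mul_mem_left _ (hkK l)⟩ : K) =
        ∑ l, c l • (⟨k l, hkK l⟩ : K) := by
      apply Subtype.ext
      simp [smul_eq_mul]
    rw [this, map_sum]
    refine Finset.sum_congr rfl fun l _ => ?_
    rw [hmk, map_smul]
  let π : (Fin m → A) →ₗ[A] K.Cotangent := Fintype.linearCombination A κ
  have hπ : Function.Surjective π := by
    intro x
    obtain ⟨⟨y, hy⟩, rfl⟩ := K.toCotangent_surjective x
    have hy' := hy
    rw [← hk', Ideal.mem_span_range_iff_exists_fun] at hy'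
    obtain ⟨c, hc⟩ := hy'
    refine ⟨fun l => Ideal.Quotient.mk K (c l), ?_⟩
    rw [Fintype.linearCombination_apply, hcomb]
    congr 1
    exact Subtype.ext hc
  obtain ⟨s, hs⟩ := Module.projective_lifting_property π LinearMap.id hπ
  have hs' : ∀ x, ∑ l, s x l • κ l = x := by
    intro x
    have := LinearMap.congr_fun hs x
    simpa [π, Fintype.linearCombination_apply] using this
  choose e he using fun l j => Ideal.Quotient.mk_surjective (s (κ j) l)
  refine ⟨m, k, hk', κ, s, e, hs', he, ?_, ?_, fun _ => rfl⟩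
  · intro j
    have h1 := hs' (κ j)
    simp only [← he] at h1
    rw [hcomb, Ideal.toCotangent_eq] at h1
    exact h1
  · intro i j
    rw [← Ideal.Quotient.eq_zero_iff_mem, map_sub, map_sum, sub_eq_zero]
    simp only [map_mul, he]
    conv_lhs => rw [← hs' (κ j), map_sum]
    rw [Finset.sum_apply]
    refine Finset.sum_congr rfl fun l _ => ?_
    rw [map_smul, Pi.smul_apply, smul_eq_mul, mul_comm]

theorem exists_hasPres {R : Type u} [CommRing R] {N : ℕ} (K : Ideal (MvPolynomial (Fin N) R))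
    (hfg : K.FG) [hproj : Module.Projective (MvPolynomial (Fin N) R ⧸ K) K.Cotangent] :
    ∃ m : ℕ, HasPres R (SymmetricAlgebra (MvPolynomial (Fin N) R ⧸ K) K.Cotangent)
      (m + N + 1) (m + 1) := by
  obtain ⟨m, k, hk, κ, s, e, hs, he, hsum, he2, -⟩ := exists_data K hfg
  refine ⟨m, ?_⟩
  let O := MvPolynomial (Fin N) R
  let Q := MvPolynomial (Fin m) O
  let ε : Q ≃ₐ[R] MvPolynomial (Fin (m + N)) R :=
    (MvPolynomial.sumAlgEquiv R (Fin m) (Fin N)).symm.trans
      (MvPolynomial.renameEquiv R finSumFinEquiv)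
  let ψ : Q →ₐ[R] SymmetricAlgebra (O ⧸ K) K.Cotangent :=
    { SymPres.ψ K κ with
      commutes' := fun r => by
        change SymPres.ψ K κ (C (C r)) = _
        rw [SymPres.ψ_C, IsScalarTower.algebraMap_apply R (O ⧸ K)]
        rfl }
  have hψ : Function.Surjective ψ := SymPres.ψ_surjective K κ s hs
  let J := SymPres.J K e
  have hJ : ∀ x, ψ x = 0 ↔ x ∈ J := by
    intro x
    rw [show J = RingHom.ker (SymPres.ψ K κ) from (SymPres.ker_ψ K κ s hs e he).symm]
    rfl
  let f : Fin m → Q := fun j => C (k j) + (SymPres.r e j - ∑ l, C (e l j) * SymPres.r e l)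
  have hkK : ∀ j, k j ∈ K := fun j => hk ▸ Ideal.subset_span ⟨j, rfl⟩
  have hfJ : ∀ j, f j ∈ J := fun j =>
    J.add_mem (SymPres.C_mem_J K e (hkK j)) (J.sub_mem (SymPres.r_mem_J K e j)
      (J.sum_mem fun l _ => J.mul_mem_left _ (SymPres.r_mem_J K e l)))
  have hJfg : J.FG := by
    refine Submodule.FG.sup (hfg.map _) ?_
    exact Submodule.fg_span (Set.finite_range _)
  have hle : J ≤ Ideal.span (Set.range f) ⊔ J • J := by
    have := SymPres.J_le K e hk hsum he2
    rwa [pow_two] at this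
  obtain ⟨h, hh1, hh2⟩ := Submodule.exists_sub_one_mem_and_smul_le_of_fg_of_le_sup hJfg le_rfl hle
  refine hasPres_of_surjective ε ψ hψ h ?_ f (fun i => (hJ _).mpr (hfJ i)) ?_
  · have := (hJ _).mpr hh1
    rwa [map_sub, map_one, sub_eq_zero] at this
  · intro x hx
    exact hh2 (Submodule.smul_mem_pointwise_smul _ _ _ ((hJ x).mp hx))

end K359.SymHasPres
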