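import Mathlib.LinearAlgebra.SymmetricAlgebra.Basis
import Mathlib.RingTheory.TensorProduct.Quotient
import Mathlib.Algebra.Module.Projective
import Mathlib.RingTheory.Finiteness.Projective

/-!
# Isomorphisms of symmetric algebras: functoriality, base change, products

* `congr`: `Sym_R(M) ≃ Sym_R(N)` for `M ≃ N`.
* `baseChange`: `S ⊗_R Sym_R(M) ≃ Sym_S(S ⊗_R M)`.
* `prod`: `Sym_R(M) ⊗_R Sym_R(N) ≃ Sym_R(M × N)`.
* `quotient`: `Sym_R(M) / J Sym_R(M) ≃ Sym_{R/J}(R/J ⊗_R M)`.
* `exists_complement`: a finite projective module is a direct factor of a free one.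
-/

set_option autoImplicit false

namespace K359.SymIso

open TensorProduct SymmetricAlgebra

universe u v w

section Congr

variable {R : Type u} [CommRing R] {M : Type v} {N : Type w} [AddCommGroup M] [Module R M] [AddCommGroup N]
  [Module R N]

/-- Functoriality of the symmetric algebra for linear equivalences. -/
noncomputable def congr (e : M ≃ₗ[R] N) : SymmetricAlgebra R M ≃ₐ[R] SymmetricAlgebra R N :=
  AlgEquiv.ofAlgHom (SymmetricAlgebra.lift ((ι R N).comp e.toLinearMap))
    (SymmetricAlgebra.lift ((ι R M).comp e.symm.toLinearMap))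
    (algHom_ext (LinearMap.ext fun x => by simp))
    (algHom_ext (LinearMap.ext fun x => by simp))

@[simp] theorem congr_ι (e : M ≃ₗ[R] N) (m : M) : congr e (ι R M m) = ι R N (e m) := by
  change SymmetricAlgebra.lift ((ι R N).comp e.toLinearMap) (ι R M m) = _
  simp

end Congr

section BaseChange

variable (R : Type u) [CommRing R] (S : Type v) [CommRing S] [Algebra R S] (M : Type w) [AddCommGroup M]
  [Module R M]

/-- `Sym_R(M) → Sym_S(S ⊗_R M)`. -/
noncomputable def toBC : SymmetricAlgebra R M →ₐ[R] SymmetricAlgebra S (S ⊗[R] M) :=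
  SymmetricAlgebra.lift (((ι S (S ⊗[R] M)).restrictScalars R).comp (TensorProduct.mk R S M 1))

theorem toBC_ι (m : M) : toBC R S M (ι R M m) = ι S (S ⊗[R] M) (1 ⊗ₜ m) := by
  simp [toBC]

/-- `S ⊗_R M → S ⊗_R Sym_R(M)`. -/
noncomputable def linBC : S ⊗[R] M →ₗ[S] S ⊗[R] SymmetricAlgebra R M :=
  (ι R M).baseChange S

/-- `S ⊗_R Sym_R(M) → Sym_S(S ⊗_R M)`. -/
noncomputable def fwdBC : S ⊗[R] SymmetricAlgebra R M →ₐ[S] SymmetricAlgebra S (S ⊗[R] M) :=
  Algebra.TensorProduct.lift (Algebra.ofId S _) (toBC R S M) (fun _ _ => Commute.all _ _)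

theorem fwdBC_tmul (s : S) (x : SymmetricAlgebra R M) : fwdBC R S M (s ⊗ₜ x) = s • toBC R S M x := by
  rw [fwdBC, Algebra.TensorProduct.lift_tmul, Algebra.ofId_apply, Algebra.smul_def]

/-- `Sym_S(S ⊗_R M) → S ⊗_R Sym_R(M)`. -/
noncomputable def bwdBC : SymmetricAlgebra S (S ⊗[R] M) →ₐ[S] S ⊗[R] SymmetricAlgebra R M :=
  SymmetricAlgebra.lift (linBC R S M)

theorem bwdBC_ι (s : S) (m : M) : bwdBC R S M (ι S (S ⊗[R] M) (s ⊗ₜ m)) = s ⊗ₜ ι R M m := by
  rw [bwdBC, lift_ι_apply]
  rfl

/-- Base change of symmetric algebras. -/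
noncomputable def baseChange : S ⊗[R] SymmetricAlgebra R M ≃ₐ[S] SymmetricAlgebra S (S ⊗[R] M) :=
  AlgEquiv.ofAlgHom (fwdBC R S M) (bwdBC R S M)
    (by
      refine algHom_ext (TensorProduct.AlgebraTensorModule.curry_injective (LinearMap.ext fun s =>
        LinearMap.ext fun m => ?_))
      change fwdBC R S M (bwdBC R S M (ι S (S ⊗[R] M) (s ⊗ₜ m))) = ι S (S ⊗[R] M) (s ⊗ₜ m)
      rw [bwdBC_ι, fwdBC_tmul, toBC_ι, ← map_smul, TensorProduct.smul_tmul', smul_eq_mul, mul_one])
    (by
      refine Algebra.TensorProduct.ext (by ext) (algHom_ext (LinearMap.ext fun m => ?_))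
      change bwdBC R S M (fwdBC R S M (1 ⊗ₜ ι R M m)) = 1 ⊗ₜ ι R M m
      rw [fwdBC_tmul, toBC_ι, one_smul, bwdBC_ι])

theorem baseChange_tmul_ι (s : S) (m : M) :
    baseChange R S M (s ⊗ₜ ι R M m) = s • ι S (S ⊗[R] M) (1 ⊗ₜ m) := by
  change fwdBC R S M (s ⊗ₜ ι R M m) = _
  rw [fwdBC_tmul, toBC_ι]

end BaseChange

section Prod

variable (R : Type u) [CommRing R] (M : Type v) (N : Type w) [AddCommGroup M] [Module R M] [AddCommGroup N]
  [Module R N]

/-- `Sym(M) ⊗ Sym(N) → Sym(M × N)`. -/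
noncomputable def fwdP : SymmetricAlgebra R M ⊗[R] SymmetricAlgebra R N →ₐ[R] SymmetricAlgebra R (M × N) :=
  Algebra.TensorProduct.lift (SymmetricAlgebra.lift ((ι R (M × N)).comp (LinearMap.inl R M N)))
      (SymmetricAlgebra.lift ((ι R (M × N)).comp (LinearMap.inr R M N))) (fun _ _ => Commute.all _ _)

theorem fwdP_left (m : M) : fwdP R M N (ι R M m ⊗ₜ 1) = ι R (M × N) (m, 0) := by
  rw [fwdP, Algebra.TensorProduct.lift_tmul, map_one, mul_one, lift_ι_apply]
  rfl

theorem fwdP_right (m : N) : fwdP R M N (1 ⊗ₜ ι R N m) = ι R (M × N) (0, m) := by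
  rw [fwdP, Algebra.TensorProduct.lift_tmul, map_one, one_mul, lift_ι_apply]
  rfl

/-- `Sym(M × N) → Sym(M) ⊗ Sym(N)`. -/
noncomputable def bwdP : SymmetricAlgebra R (M × N) →ₐ[R] SymmetricAlgebra R M ⊗[R] SymmetricAlgebra R N :=
  SymmetricAlgebra.lift (LinearMap.coprod
      ((Algebra.TensorProduct.includeLeft (R := R) (S := R) (A := SymmetricAlgebra R M)
        (B := SymmetricAlgebra R N)).toLinearMap.comp (ι R M))
      ((Algebra.TensorProduct.includeRight (R := R) (A := SymmetricAlgebra R M)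
        (B := SymmetricAlgebra R N)).toLinearMap.comp (ι R N)))

theorem bwdP_ι (x : M × N) : bwdP R M N (ι R (M × N) x) = ι R M x.1 ⊗ₜ 1 + 1 ⊗ₜ ι R N x.2 := by
  rw [bwdP, lift_ι_apply]
  rfl

/-- `Sym(M) ⊗ Sym(N) ≃ Sym(M × N)`. -/
noncomputable def prod : SymmetricAlgebra R M ⊗[R] SymmetricAlgebra R N ≃ₐ[R] SymmetricAlgebra R (M × N) :=
  AlgEquiv.ofAlgHom (fwdP R M N) (bwdP R M N)
    (by
      refine algHom_ext (LinearMap.ext fun x => ?_)
      change fwdP R M N (bwdP R M N (ι R (M × N) x)) = ι R (M × N) x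
      rw [bwdP_ι, map_add, fwdP_left, fwdP_right, ← map_add]
      simp)
    (by
      refine Algebra.TensorProduct.ext (algHom_ext (LinearMap.ext fun m => ?_))
        (algHom_ext (LinearMap.ext fun m => ?_))
      · change bwdP R M N (fwdP R M N (ι R M m ⊗ₜ 1)) = ι R M m ⊗ₜ 1
        rw [fwdP_left, bwdP_ι, map_zero, TensorProduct.tmul_zero, add_zero]
      · change bwdP R M N (fwdP R M N (1 ⊗ₜ ι R N m)) = 1 ⊗ₜ ι R N m
        rw [fwdP_right, bwdP_ι, map_zero, TensorProduct.zero_tmul, zero_add])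

end Prod

section Quotient

variable {R : Type u} [CommRing R] (J : Ideal R) (M : Type v) [AddCommGroup M] [Module R M]

/-- Quotients of symmetric algebras by ideals of the base. -/
noncomputable def quotient : (SymmetricAlgebra R M ⧸ J.map (algebraMap R (SymmetricAlgebra R M))) ≃ₐ[R ⧸ J]
    SymmetricAlgebra (R ⧸ J) ((R ⧸ J) ⊗[R] M) :=
  (Algebra.TensorProduct.quotIdealMapEquivQuotTensor (SymmetricAlgebra R M) J).trans (baseChange R (R ⧸ J) M)

end Quotient

/-- A finite projective module is a direct factor of a finite free module. -/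
theorem exists_complement (R : Type u) [CommRing R] (P : Type u) [AddCommGroup P] [Module R P] [Module.Finite R P]
    [Module.Projective R P] : ∃ (n : ℕ) (Q : Type u) (_ : AddCommGroup Q) (_ : Module R Q),
      Module.Finite R Q ∧ Module.Projective R Q ∧ Nonempty ((P × Q) ≃ₗ[R] (Fin n → R)) := by
  obtain ⟨n, f, hf⟩ := Module.Finite.exists_fin' R P
  obtain ⟨s, hs⟩ := Module.projective_lifting_property f LinearMap.id hf
  have hs' : ∀ x, f (s x) = x := fun x => congr($hs x)
  let π : (Fin n → R) →ₗ[R] LinearMap.ker f :=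
    (LinearMap.id - s.comp f).codRestrict (LinearMap.ker f) (fun x => by simp [hs'])
  let e : (P × LinearMap.ker f) ≃ₗ[R] (Fin n → R) :=
    LinearEquiv.ofLinearMap (LinearMap.coprod s (LinearMap.ker f).subtype) (LinearMap.prod f π)
      (by
        refine LinearMap.ext fun x => ?_
        simp [π])
      (by
        refine LinearMap.ext fun x => Prod.ext ?_ (Subtype.ext ?_)
        · simp [hs']
        · simp [hs', π])
  have h1 : Module.Finite R (P × LinearMap.ker f) := Module.Finite.equiv e.symm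
  have h2 : Module.Projective R (P × LinearMap.ker f) := Module.Projective.of_equiv e.symm
  refine ⟨n, LinearMap.ker f, inferInstance, inferInstance, ?_, ?_, ⟨e⟩⟩
  · exact Module.Finite.of_surjective (LinearMap.snd R P (LinearMap.ker f)) LinearMap.snd_surjective
  · exact Module.Projective.of_split (LinearMap.inr R P (LinearMap.ker f)) (LinearMap.snd R P _) (by ext; simp)

end K359.SymIso
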