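import Mathlib.LinearAlgebra.SymmetricAlgebra.Basis
import Mathlib.RingTheory.Ideal.Cotangent
import Mathlib.RingTheory.Nakayama
import Mathlib.Algebra.Module.Projective

/-!
Presentation of `Sym_A(P)`, `P` a module with a "dual basis" `(κ, s)`, over a polynomial ring.
-/

set_option autoImplicit false
universe u v w

open MvPolynomial

namespace K359.SymPres

section

variable {O : Type u} [CommRing O] (K : Ideal O) {P : Type v} [AddCommGroup P]
  [Module (O ⧸ K) P] {m : ℕ} (κ : Fin m → P)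

/-- `O[y_1..y_m] → Sym_{O/K}(P)`, `y_j ↦ κ_j`. -/
noncomputable def ψ : MvPolynomial (Fin m) O →+* SymmetricAlgebra (O ⧸ K) P :=
  eval₂Hom ((algebraMap (O ⧸ K) (SymmetricAlgebra (O ⧸ K) P)).comp (Ideal.Quotient.mk K))
    (fun j => SymmetricAlgebra.ι (O ⧸ K) P (κ j))

@[simp] lemma ψ_C (a : O) : ψ K κ (C a) = algebraMap (O ⧸ K) _ (Ideal.Quotient.mk K a) := by
  simp [ψ]

@[simp] lemma ψ_X (j : Fin m) : ψ K κ (X j) = SymmetricAlgebra.ι (O ⧸ K) P (κ j) := by
  simp [ψ]

variable (s : P →ₗ[O ⧸ K] (Fin m → O ⧸ K)) (hs : ∀ x : P, ∑ l, s x l • κ l = x)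

include hs in
theorem ψ_surjective : Function.Surjective (ψ K κ) := by
  intro x
  induction x using SymmetricAlgebra.induction with
  | algebraMap r =>
    obtain ⟨a, rfl⟩ := Ideal.Quotient.mk_surjective r
    exact ⟨C a, ψ_C K κ a⟩
  | ι x =>
    choose a ha using fun l => Ideal.Quotient.mk_surjective (s x l)
    refine ⟨∑ l, C (a l) * X l, ?_⟩
    rw [map_sum]
    simp only [map_mul, ψ_C, ψ_X, ha]
    conv_rhs => rw [← hs x, map_sum]
    refine Finset.sum_congr rfl fun l _ => ?_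
    rw [map_smul, Algebra.smul_def]
  | mul a b ha hb =>
    obtain ⟨x, rfl⟩ := ha
    obtain ⟨y, rfl⟩ := hb
    exact ⟨x * y, map_mul _ _ _⟩
  | add a b ha hb =>
    obtain ⟨x, rfl⟩ := ha
    obtain ⟨y, rfl⟩ := hb
    exact ⟨x + y, map_add _ _ _⟩

variable (e : Fin m → Fin m → O) (he : ∀ l j, Ideal.Quotient.mk K (e l j) = s (κ j) l)

/-- The linear relations. -/
noncomputable def r (j : Fin m) : MvPolynomial (Fin m) O := X j - ∑ l, C (e l j) * X l

lemma r_def (j : Fin m) : r e j = X j - ∑ l, C (e l j) * X l := rfl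

/-- The ideal of relations. -/
noncomputable def J : Ideal (MvPolynomial (Fin m) O) := K.map C ⊔ Ideal.span (Set.range (r e))

lemma C_mem_J {a : O} (ha : a ∈ K) : C a ∈ J K e :=
  Ideal.mem_sup_left (Ideal.mem_map_of_mem _ ha)

lemma r_mem_J (j : Fin m) : r e j ∈ J K e :=
  Ideal.mem_sup_right (Ideal.subset_span ⟨j, rfl⟩)

include hs he in
theorem J_le_ker : J K e ≤ RingHom.ker (ψ K κ) := by
  refine sup_le ?_ ?_
  · rw [Ideal.map_le_iff_le_comap]
    intro a ha
    rw [Ideal.mem_comap, RingHom.mem_ker, ψ_C, Ideal.Quotient.eq_zero_iff_mem.mpr ha, map_zero]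
  · rw [Ideal.span_le]
    rintro _ ⟨j, rfl⟩
    rw [SetLike.mem_coe, RingHom.mem_ker, r, map_sub, ψ_X, map_sum, sub_eq_zero]
    simp only [map_mul, ψ_C, ψ_X, he]
    conv_lhs => rw [← hs (κ j), map_sum]
    refine Finset.sum_congr rfl fun l _ => ?_
    rw [map_smul, Algebra.smul_def]

/-- The inverse map. -/
noncomputable def inv : SymmetricAlgebra (O ⧸ K) P →+* MvPolynomial (Fin m) O ⧸ J K e :=
  let : Algebra (O ⧸ K) (MvPolynomial (Fin m) O ⧸ J K e) :=
    (Ideal.Quotient.lift K ((Ideal.Quotient.mk (J K e)).comp C) (fun a ha => by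
      rw [RingHom.comp_apply, Ideal.Quotient.eq_zero_iff_mem]
      exact C_mem_J K e ha)).toAlgebra
  (SymmetricAlgebra.lift (R := O ⧸ K) (M := P) (A := MvPolynomial (Fin m) O ⧸ J K e)
    ((Fintype.linearCombination (O ⧸ K)
      (fun l : Fin m => Ideal.Quotient.mk (J K e) (X l))).comp s)).toRingHom

lemma inv_algebraMap (a : O) : inv K s e (algebraMap (O ⧸ K) _ (Ideal.Quotient.mk K a)) =
    Ideal.Quotient.mk (J K e) (C a) := by
  let : Algebra (O ⧸ K) (MvPolynomial (Fin m) O ⧸ J K e) :=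
    (Ideal.Quotient.lift K ((Ideal.Quotient.mk (J K e)).comp C) (fun a ha => by
      rw [RingHom.comp_apply, Ideal.Quotient.eq_zero_iff_mem]
      exact C_mem_J K e ha)).toAlgebra
  exact AlgHom.commutes (SymmetricAlgebra.lift (R := O ⧸ K) (M := P) (A := MvPolynomial (Fin m) O ⧸ J K e)
    ((Fintype.linearCombination (O ⧸ K)
      (fun l : Fin m => Ideal.Quotient.mk (J K e) (X l))).comp s)) (Ideal.Quotient.mk K a)

include he in
lemma inv_ι (j : Fin m) : inv K s e (SymmetricAlgebra.ι _ _ (κ j)) =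
    Ideal.Quotient.mk (J K e) (X j) := by
  let : Algebra (O ⧸ K) (MvPolynomial (Fin m) O ⧸ J K e) :=
    (Ideal.Quotient.lift K ((Ideal.Quotient.mk (J K e)).comp C) (fun a ha => by
      rw [RingHom.comp_apply, Ideal.Quotient.eq_zero_iff_mem]
      exact C_mem_J K e ha)).toAlgebra
  change SymmetricAlgebra.lift (R := O ⧸ K) (M := P) (A := MvPolynomial (Fin m) O ⧸ J K e)
    ((Fintype.linearCombination (O ⧸ K)
      (fun l : Fin m => Ideal.Quotient.mk (J K e) (X l))).comp s) (SymmetricAlgebra.ι _ _ (κ j)) = _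
  rw [SymmetricAlgebra.lift_ι_apply, LinearMap.comp_apply, Fintype.linearCombination_apply]
  have h1 : ∀ i, s (κ j) i • Ideal.Quotient.mk (J K e) (X i) =
      Ideal.Quotient.mk (J K e) (C (e i j) * X i) := by
    intro i
    rw [← he, Algebra.smul_def, map_mul]
    rfl
  simp only [h1]
  rw [← map_sum, eq_comm]
  exact Ideal.Quotient.eq.mpr (r_mem_J K e j)

include hs he in
theorem ker_ψ : RingHom.ker (ψ K κ) = J K e := by
  refine le_antisymm ?_ (J_le_ker K κ s hs e he)
  have h : (inv K s e).comp (ψ K κ) = Ideal.Quotient.mk (J K e) := by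
    apply MvPolynomial.ringHom_ext
    · intro a
      rw [RingHom.comp_apply, ψ_C, inv_algebraMap]
    · intro j
      rw [RingHom.comp_apply, ψ_X, inv_ι K κ s e he]
  intro x hx
  rw [RingHom.mem_ker] at hx
  rw [← Ideal.Quotient.eq_zero_iff_mem, ← h, RingHom.comp_apply, hx, map_zero]

/-- `K` is generated by the `k_j` and `κ_j = [k_j]`: the ideal `J` is generated by
`f_j = k_j + r_j - ∑ e_{lj} r_l` modulo `J²`. -/
theorem J_le {k : Fin m → O} (hk : Ideal.span (Set.range k) = K)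
    (hsum : ∀ j, ∑ l, e l j * k l - k j ∈ K ^ 2) (he2 : ∀ i j, e i j - ∑ l, e i l * e l j ∈ K) :
    J K e ≤ Ideal.span (Set.range fun j => C (k j) + (r e j - ∑ l, C (e l j) * r e l)) ⊔ (J K e) ^ 2 := by
  set f : Fin m → MvPolynomial (Fin m) O := fun j => C (k j) + (r e j - ∑ l, C (e l j) * r e l) with hf
  set N := Ideal.span (Set.range f) ⊔ (J K e) ^ 2 with hN
  have hfN : ∀ j, f j ∈ N := fun j => Ideal.mem_sup_left (Ideal.subset_span ⟨j, rfl⟩)
  have hJN : (J K e) ^ 2 ≤ N := le_sup_right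
  -- `∑ l, e l j r'_l ∈ J²`
  have h1 : ∀ j, ∑ l, C (e l j) * (r e l - ∑ i, C (e i l) * r e i) ∈ (J K e) ^ 2 := by
    intro j
    have : ∑ l, C (e l j) * (r e l - ∑ i, C (e i l) * r e i) =
        ∑ i, C (e i j - ∑ l, e i l * e l j) * r e i := by
      simp only [mul_sub, Finset.sum_sub_distrib, Finset.mul_sum, map_sub, map_sum, map_mul, sub_mul,
        Finset.sum_mul]
      congr 1
      rw [Finset.sum_comm]
      refine Finset.sum_congr rfl fun i _ => Finset.sum_congr rfl fun l _ => ?_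
      ring
    rw [this, pow_two]
    exact Ideal.sum_mem _ fun i _ => Ideal.mul_mem_mul (C_mem_J K e (he2 i j)) (r_mem_J K e i)
  have h2 : ∀ j, C (k j) ∈ N := by
    intro j
    have h3 : C (∑ l, e l j * k l - k j) ∈ (J K e) ^ 2 := by
      have h4 : C (∑ l, e l j * k l - k j) ∈ (K ^ 2).map (C : O →+* MvPolynomial (Fin m) O) :=
        Ideal.mem_map_of_mem _ (hsum j)
      rw [Ideal.map_pow] at h4
      exact Ideal.pow_right_mono le_sup_left 2 h4
    have h5 : C (k j) = ∑ l, C (e l j) * f l - C (∑ l, e l j * k l - k j) -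
        ∑ l, C (e l j) * (r e l - ∑ i, C (e i l) * r e i) := by
      simp only [hf, mul_add, Finset.sum_add_distrib, map_sub, map_sum, map_mul]
      ring
    rw [h5]
    refine N.sub_mem (N.sub_mem (Ideal.sum_mem _ fun l _ => N.mul_mem_left _ (hfN l)) (hJN h3))
      (hJN (h1 j))
  have h6 : K.map C ≤ N := by
    rw [← hk, Ideal.map_span, Ideal.span_le]
    rintro _ ⟨_, ⟨j, rfl⟩, rfl⟩
    exact h2 j
  refine sup_le h6 ?_
  rw [Ideal.span_le]
  rintro _ ⟨j, rfl⟩
  have h7 : ∑ l, C (e l j) * r e l ∈ N := by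
    have : ∑ l, C (e l j) * r e l = ∑ i, C (e i j - ∑ l, e i l * e l j) * X i := by
      simp only [r, mul_sub, Finset.sum_sub_distrib, Finset.mul_sum, map_sub, map_sum, map_mul, sub_mul,
        Finset.sum_mul]
      congr 1
      rw [Finset.sum_comm]
      refine Finset.sum_congr rfl fun i _ => Finset.sum_congr rfl fun l _ => ?_
      ring
    rw [this]
    exact Ideal.sum_mem _ fun i _ => N.mul_mem_right _ (h6 (Ideal.mem_map_of_mem _ (he2 i j)))
  have h8 : r e j = f j - C (k j) + ∑ l, C (e l j) * r e l := by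
    simp only [hf]
    ring
  rw [SetLike.mem_coe, h8]
  exact N.add_mem (N.sub_mem (hfN j) (h2 j)) h7

end

end K359.SymPres
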