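import Groth.Agent.Smoothing.K359.SymIso
import Groth.Agent.Synt.K562.Split
import Groth.Agent.Synt.K563.Smooth
import Groth.Agent.CalgB.EtaleProj
import Groth.Agent.Smoothlim.SymAlg
import Mathlib.RingTheory.Smooth.Flat

/-!
# Lifting a polynomial ring over a retract

If `Sym_{A₁}(P₀)` lifts to a syntomic `R`-algebra and `P₀ × Q₀` is free of rank `n`, then `A₁[t_1, ..., t_n]`
lifts to a syntomic `R`-algebra.
-/

set_option autoImplicit false

universe u

namespace K359.SynLiftPoly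

open TensorProduct Groth.Agent

/-- Smooth algebras are syntomic. -/
theorem isSyntomic_of_smooth (R S : Type u) [CommRing R] [CommRing S] [Algebra R S] [Algebra.Smooth R S] :
    Synt.IsSyntomic R S := by
  refine ⟨inferInstance, inferInstance, fun p => ?_⟩
  have : Algebra.Smooth p.asIdeal.ResidueField (p.asIdeal.Fiber S) := ⟨inferInstance, inferInstance⟩
  exact K563.Smooth.isLCIOver_of_smooth

/-- The purely algebraic part: everything over a ring `A`, with `B → B'` an isomorphism of `A`-algebras. -/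
noncomputable def polyEquiv {A₁ : Type u} [CommRing A₁] (P₀ Q₀ : Type u) [AddCommGroup P₀] [Module A₁ P₀]
    [AddCommGroup Q₀] [Module A₁ Q₀] {n : ℕ} (ε : (P₀ × Q₀) ≃ₗ[A₁] (Fin n → A₁))
    (B : Type u) [CommRing B] [Algebra A₁ B] (e : B ≃ₐ[A₁] SymmetricAlgebra A₁ P₀) :
    SymmetricAlgebra B (B ⊗[A₁] Q₀) ≃ₐ[A₁] MvPolynomial (Fin n) A₁ :=
  ((SymIso.baseChange A₁ B Q₀).symm.restrictScalars A₁).trans
    ((Algebra.TensorProduct.congr e AlgEquiv.refl).trans ((SymIso.prod A₁ P₀ Q₀).trans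
      ((SymIso.congr ε).trans (SymmetricAlgebra.equivMvPolynomial (Pi.basisFun A₁ (Fin n))))))

theorem exists_lift_poly {R : Type u} [CommRing R] (I : Ideal R) {A₁ : Type u} [CommRing A₁] [Algebra R A₁]
    (P₀ Q₀ : Type u) [AddCommGroup P₀] [Module A₁ P₀] [AddCommGroup Q₀] [Module A₁ Q₀]
    [Module.Finite A₁ Q₀] [Module.Projective A₁ Q₀] {n : ℕ} (ε : (P₀ × Q₀) ≃ₗ[A₁] (Fin n → A₁))
    [Module R P₀] [IsScalarTower R A₁ P₀]
    (C : Type u) [CommRing C] [Algebra R C] (hC : Synt.IsSyntomic R C)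
    (e : (C ⧸ I.map (algebraMap R C)) ≃ₐ[R] SymmetricAlgebra A₁ P₀) :
    ∃ (D : Type u) (_ : CommRing D) (_ : Algebra R D), Synt.IsSyntomic R D ∧
      Nonempty ((D ⧸ I.map (algebraMap R D)) ≃ₐ[R] MvPolynomial (Fin n) A₁) := by
  let J := I.map (algebraMap R C)
  let : Algebra A₁ (C ⧸ J) := (e.symm.toRingHom.comp (algebraMap A₁ (SymmetricAlgebra A₁ P₀))).toAlgebra
  have hA₁ : ∀ a, algebraMap A₁ (C ⧸ J) a = e.symm (algebraMap A₁ (SymmetricAlgebra A₁ P₀) a) := fun _ => rfl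
  have t1 : IsScalarTower R A₁ (C ⧸ J) := IsScalarTower.of_algebraMap_eq fun r => by
    rw [hA₁, ← IsScalarTower.algebraMap_apply R A₁ (SymmetricAlgebra A₁ P₀), e.symm.commutes]
  obtain ⟨C', _, _, hCC', hbij, Q, _, _, hQ1, hQ2, ⟨δ⟩⟩ :=
    CalgB.EtaleProj.exists_etale_lift_finite_projective J ((C ⧸ J) ⊗[A₁] Q₀)
  let J' := J.map (algebraMap C C')
  let : Algebra A₁ (C' ⧸ J') := ((algebraMap (C ⧸ J) (C' ⧸ J')).comp (algebraMap A₁ (C ⧸ J))).toAlgebra
  have t2 : IsScalarTower A₁ (C ⧸ J) (C' ⧸ J') := IsScalarTower.of_algebraMap_eq fun _ => rfl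
  let : Algebra R C' := ((algebraMap C C').comp (algebraMap R C)).toAlgebra
  have t3 : IsScalarTower R C C' := IsScalarTower.of_algebraMap_eq fun _ => rfl
  have t4 : IsScalarTower R (C ⧸ J) (C' ⧸ J') := IsScalarTower.of_algebraMap_eq fun _ => rfl
  have t5 : IsScalarTower R A₁ (C' ⧸ J') := IsScalarTower.of_algebraMap_eq fun r => by
    rw [IsScalarTower.algebraMap_apply A₁ (C ⧸ J) (C' ⧸ J'), ← IsScalarTower.algebraMap_apply R A₁ (C ⧸ J),
      ← IsScalarTower.algebraMap_apply R (C ⧸ J) (C' ⧸ J')]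
  let e₁ : (C' ⧸ J') ≃ₐ[A₁] SymmetricAlgebra A₁ P₀ :=
    (AlgEquiv.ofBijective (IsScalarTower.toAlgHom A₁ (C ⧸ J) (C' ⧸ J')) hbij).symm.trans
      (AlgEquiv.ofRingEquiv (f := e.toRingEquiv) fun a => by
        change e (algebraMap A₁ (C ⧸ J) a) = _
        rw [hA₁, e.apply_symm_apply])
  let δ' : (C' ⧸ J') ⊗[C'] Q ≃ₗ[C' ⧸ J'] (C' ⧸ J') ⊗[A₁] Q₀ :=
    δ.trans (AlgebraTensorModule.cancelBaseChange A₁ (C ⧸ J) (C' ⧸ J') (C' ⧸ J') Q₀)
  let D := SymmetricAlgebra C' Q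
  let : Algebra R D := ((algebraMap C' D).comp (algebraMap R C')).toAlgebra
  have t6 : IsScalarTower R C' D := IsScalarTower.of_algebraMap_eq fun _ => rfl
  have hJ : I.map (algebraMap R D) = J'.map (algebraMap C' D) := by
    rw [Ideal.map_map, Ideal.map_map]
    rfl
  let F : (D ⧸ I.map (algebraMap R D)) ≃+* MvPolynomial (Fin n) A₁ :=
    (Ideal.quotEquivOfEq hJ).trans ((SymIso.quotient J' Q).toRingEquiv.trans
      ((SymIso.congr δ').toRingEquiv.trans (polyEquiv P₀ Q₀ ε (C' ⧸ J') e₁).toRingEquiv))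
  refine ⟨D, inferInstance, inferInstance, ?_, ⟨AlgEquiv.ofRingEquiv (f := F) fun r => ?_⟩⟩
  · have h1 : Synt.IsSyntomic C C' := isSyntomic_of_smooth C C'
    have h2 : Synt.IsSyntomic R C' := K562.Split.isSyntomic_trans R C C' hC h1
    have h3 : Algebra.Smooth C' D := Smoothlim.SymAlg.smooth C' Q
    exact K562.Split.isSyntomic_trans R C' D h2 (isSyntomic_of_smooth C' D)
  · change polyEquiv P₀ Q₀ ε (C' ⧸ J') e₁ (SymIso.congr δ' (SymIso.quotient J' Q
      (algebraMap (C' ⧸ J') _ (algebraMap R (C' ⧸ J') r)))) = _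
    rw [AlgEquiv.commutes, AlgEquiv.commutes, IsScalarTower.algebraMap_apply R A₁ (C' ⧸ J'),
      ← IsScalarTower.algebraMap_apply A₁ (C' ⧸ J'), AlgEquiv.commutes,
      ← IsScalarTower.algebraMap_apply]

end K359.SynLiftPoly
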